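import Cfsg.Agent.H193.K6.SLTwo
import Cfsg.Agent.H72.AdjPSL

/-!
# Eight classes of `PSL_n(q)`, `n ≥ 3`, `q` odd (helper193, S4876)
-/

set_option autoImplicit false

namespace Cfsg.Agent.H193.K6

open Matrix Cfsg.Agent.H72

/-! ### explicit matrices over `𝔽₃` -/

/-- order 8 -/
def m8 : SpecialLinearGroup (Fin 3) (ZMod 3) := ⟨!![0, 1, 0; 1, 1, 0; 0, 0, 2], by decide⟩

theorem orderOf_m8 : orderOf m8 = 8 := by
  have h1 : ¬ m8 ^ 2 ^ 2 = 1 := by decide
  have h2 : m8 ^ 2 ^ (2 + 1) = 1 := by decide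
  exact orderOf_eq_prime_pow (p := 2) (n := 2) h1 h2

section

variable {F : Type*} [Field F] [Fintype F] {n : ℕ}

theorem charP_three (h3 : Fintype.card F = 3) : CharP F 3 := by
  obtain ⟨p, hp⟩ := CharP.exists F
  have hpp : p.Prime := CharP.char_is_prime F p
  have h1 : p ∣ 3 := by rw [← h3]; exact dvd_card_of_charP
  rwa [(Nat.prime_dvd_prime_iff_eq hpp Nat.prime_three).1 h1] at hp

theorem charP_five (h5 : Fintype.card F = 5) : CharP F 5 := by
  obtain ⟨p, hp⟩ := CharP.exists F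
  have hpp : p.Prime := CharP.char_is_prime F p
  have h1 : p ∣ 5 := by rw [← h5]; exact dvd_card_of_charP
  rwa [(Nat.prime_dvd_prime_iff_eq hpp Nat.prime_five).1 h1] at hp

theorem has_map (K L : Type*) [Field K] [Field L] (f : K →+* L) {a m : ℕ}
    (h : Has (SpecialLinearGroup (Fin a) K) m) : Has (SpecialLinearGroup (Fin a) L) m := by
  refine h.map (SpecialLinearGroup.map f) ?_
  intro x y hxy
  apply Subtype.ext
  ext i j
  have h1 := congrArg (fun g : SpecialLinearGroup (Fin a) L => (g : Matrix (Fin a) (Fin a) L) i j) hxy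
  exact f.injective h1

theorem has_sl3_eight (h3 : Fintype.card F = 3) : Has (SpecialLinearGroup (Fin 3) F) 8 := by
  have := charP_three h3
  exact has_map _ _ (ZMod.castHom (dvd_refl 3) F) ⟨m8, orderOf_m8⟩

theorem hasBlock_of_has {a m : ℕ} (h : Has (SpecialLinearGroup (Fin a) F) m) : AdjPSL.HasBlock F a m := by
  obtain ⟨u, rfl⟩ := h
  have hpow : ∀ k : ℕ, ((u ^ k : SpecialLinearGroup (Fin a) F) : Matrix (Fin a) (Fin a) F) =
      (u : Matrix (Fin a) (Fin a) F) ^ k := fun k => Matrix.SpecialLinearGroup.coe_pow u k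
  refine ⟨u, u.2, ?_, ?_⟩
  · rw [← hpow, pow_orderOf_eq_one]
    rfl
  · intro k hk
    apply orderOf_dvd_of_pow_eq_one
    apply Subtype.ext
    exact (hpow k).trans hk

theorem has_psl_of_lt {a m : ℕ} (han : a < n) (h : Has (SpecialLinearGroup (Fin a) F) m) :
    Has (Matrix.ProjectiveSpecialLinearGroup (Fin n) F) m :=
  AdjPSL.exists_order_of_block_lt (hasBlock_of_has h) han m dvd_rfl

/-- Singer cycles -/
theorem has_psl_singer {a d : ℕ} (ha : 1 ≤ a) (han : a ≤ n) (hd : d ∣ Fintype.card F ^ a - 1)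
    (hco : Nat.Coprime d (Fintype.card F - 1)) : Has (Matrix.ProjectiveSpecialLinearGroup (Fin n) F) d :=
  AdjPSL.exists_order_of_block (AdjPSL.hasBlock_singer (by omega) hd hco) ha han hco d dvd_rfl

/-- **`PSL_n(q)`, `n ≥ 3`, `q ≥ 5` odd.** -/
theorem eight_psl {p : ℕ} [hp : Fact p.Prime] [CharP F p] (hp2 : p ≠ 2) (hn : 3 ≤ n) (h5 : 5 ≤ Fintype.card F)
    (hodd : Odd (Fintype.card F)) : Eight (Matrix.ProjectiveSpecialLinearGroup (Fin n) F) := by
  have h := fun m (hm : Has (SpecialLinearGroup (Fin 2) F) m) => has_psl_of_lt (n := n) (F := F) (by omega) hm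
  by_cases h7 : 7 ≤ Fintype.card F
  · exact eight_of_seven hp2 h7 hodd h
  · have h5' : Fintype.card F = 5 := by
      obtain ⟨r, hr⟩ := hodd
      omega
    refine eight_of_five h5' h (r := 31) (has_psl_singer (a := 3) (by omega) hn ?_ ?_) (by decide)
    · rw [h5']; norm_num
    · rw [h5']; norm_num

/-- **`PSL_n(3)`, `n ≥ 4`.** -/
theorem eight_psl_three (hn : 4 ≤ n) (h3 : Fintype.card F = 3) :
    Eight (Matrix.ProjectiveSpecialLinearGroup (Fin n) F) := by
  have h := fun m (hm : Has (SpecialLinearGroup (Fin 2) F) m) => has_psl_of_lt (n := n) (F := F) (by omega) hm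
  have h0 : ∀ m ∈ ({1, 2, 3, 4, 6} : Finset ℕ), Has (Matrix.ProjectiveSpecialLinearGroup (Fin n) F) m :=
    fun m hm => has_of_three h3 h hm
  have h8 : Has (Matrix.ProjectiveSpecialLinearGroup (Fin n) F) 8 := has_psl_of_lt (a := 3) (by omega) (has_sl3_eight h3)
  have h13 : Has (Matrix.ProjectiveSpecialLinearGroup (Fin n) F) 13 :=
    has_psl_singer (a := 3) (by omega) (by omega) (by rw [h3]; norm_num) (by rw [h3]; norm_num)
  have h5 : Has (Matrix.ProjectiveSpecialLinearGroup (Fin n) F) 5 :=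
    has_psl_singer (a := 4) (by omega) (by omega) (by rw [h3]; norm_num) (by rw [h3]; norm_num)
  refine Eight.of_has {1, 2, 3, 4, 6, 8, 13, 5} ?_ (by decide)
  intro m hm
  simp only [Finset.mem_insert, Finset.mem_singleton] at hm
  rcases hm with rfl | rfl | rfl | rfl | rfl | rfl | rfl | rfl
  · exact h0 _ (by decide)
  · exact h0 _ (by decide)
  · exact h0 _ (by decide)
  · exact h0 _ (by decide)
  · exact h0 _ (by decide)
  · exact h8
  · exact h13
  · exact h5

/-! ### `PSL₃(3)` -/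

/-- the centralizer of a regular unipotent element has no involutions -/
theorem comm_unip (h2 : (2 : F) ≠ 0) {y : SpecialLinearGroup (Fin 3) F}
    (hc : (y : Matrix (Fin 3) (Fin 3) F) * !![1, 1, 0; 0, 1, 1; 0, 0, 1] =
      !![1, 1, 0; 0, 1, 1; 0, 0, 1] * (y : Matrix (Fin 3) (Fin 3) F))
    (hy : (y : Matrix (Fin 3) (Fin 3) F) * (y : Matrix (Fin 3) (Fin 3) F) = 1) : y = 1 := by
  obtain ⟨A, hA⟩ := y
  change A * !![1, 1, 0; 0, 1, 1; 0, 0, 1] = !![1, 1, 0; 0, 1, 1; 0, 0, 1] * A at hc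
  change A * A = 1 at hy
  have e : ∀ i j : Fin 3, (A * !![1, 1, 0; 0, 1, 1; 0, 0, 1] : Matrix (Fin 3) (Fin 3) F) i j =
      (!![1, 1, 0; 0, 1, 1; 0, 0, 1] * A : Matrix (Fin 3) (Fin 3) F) i j := fun i j => by rw [hc]
  have s : ∀ i j : Fin 3, (A * A : Matrix (Fin 3) (Fin 3) F) i j = (1 : Matrix (Fin 3) (Fin 3) F) i j :=
    fun i j => by rw [hy]
  have e00 := e 0 0
  have e01 := e 0 1
  have e02 := e 0 2
  have e10 := e 1 0
  have e11 := e 1 1
  have e12 := e 1 2
  have e21 := e 2 1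
  have e22 := e 2 2
  have s00 := s 0 0
  have s01 := s 0 1
  have s02 := s 0 2
  simp [Matrix.mul_apply, Fin.sum_univ_three] at e00 e01 e02 e10 e11 e12 e21 e22 s00 s01 s02
  have a10 : A 1 0 = 0 := e00
  have a20 : A 2 0 = 0 := e10
  have a21 : A 2 1 = 0 := by linear_combination -e11 + a10
  have a11 : A 1 1 = A 0 0 := by linear_combination -e01
  have a12 : A 1 2 = A 0 1 := by linear_combination -e02
  have a22 : A 2 2 = A 1 1 := by linear_combination -e12
  have hdet : A 0 0 * A 0 0 * A 0 0 = 1 := by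
    rw [Matrix.det_fin_three, a10, a20, a21, a22, a11] at hA
    linear_combination hA
  rw [a10, a20] at s00
  have a00 : A 0 0 = 1 := by
    have : A 0 0 * A 0 0 = 1 := by linear_combination s00
    calc A 0 0 = A 0 0 * A 0 0 * A 0 0 := by rw [this, one_mul]
      _ = 1 := hdet
  have a01 : A 0 1 = 0 := by
    rw [a11, a21, a00] at s01
    have : 2 * A 0 1 = 0 := by linear_combination s01
    exact (mul_eq_zero.1 this).resolve_left h2
  have a02 : A 0 2 = 0 := by
    rw [a22, a11, a00, a01] at s02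
    have : 2 * A 0 2 = 0 := by linear_combination s02
    exact (mul_eq_zero.1 this).resolve_left h2
  apply Subtype.ext
  change A = 1
  ext i j
  fin_cases i <;> fin_cases j <;> simp [a00, a01, a02, a10, a11, a12, a20, a21, a22]

open Classical in
/-- the order, corrected for the elements of order three not commuting with an involution -/
noncomputable def inv3 {X : Type*} [Group X] (x : X) : ℕ :=
  if orderOf x = 3 ∧ ¬ ∃ y : X, orderOf y = 2 ∧ y * x = x * y then 9 else orderOf x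

theorem inv3_aut {X : Type*} [Group X] (σ : X ≃* X) (x : X) : inv3 (σ x) = inv3 x := by
  have h1 : orderOf (σ x) = orderOf x := MulEquiv.orderOf_eq σ x
  have h2 : (∃ y : X, orderOf y = 2 ∧ y * σ x = σ x * y) ↔ ∃ y : X, orderOf y = 2 ∧ y * x = x * y := by
    constructor
    · rintro ⟨y, hy, hc⟩
      refine ⟨σ.symm y, by rw [MulEquiv.orderOf_eq, hy], ?_⟩
      apply σ.injective
      rw [map_mul, map_mul, σ.apply_symm_apply, hc]
    · rintro ⟨y, hy, hc⟩
      exact ⟨σ y, by rw [MulEquiv.orderOf_eq, hy], by rw [← map_mul, hc, map_mul]⟩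
  unfold inv3
  rw [h1, h2]

theorem eight_sl_three_three (h3 : Fintype.card F = 3) {X : Type*} [Group X] [Finite X]
    (e : SpecialLinearGroup (Fin 3) F ≃* X) (h0 : ∀ m ∈ ({1, 2, 3, 4, 6, 8, 13} : Finset ℕ), Has X m) : Eight X := by
  have := charP_three h3
  have h2F : (2 : F) ≠ 0 := by
    intro h
    have h1 : ((2 : ℕ) : F) = 0 := by exact_mod_cast h
    rw [CharP.cast_eq_zero_iff F 3] at h1
    norm_num at h1
  have hord : ∀ n ∈ ({1, 2, 4, 6, 8, 13} : Finset ℕ), ∃ x : X, inv3 x = n := by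
    intro n hn
    obtain ⟨x, hx⟩ := h0 n (by revert hn; revert n; decide)
    refine ⟨x, ?_⟩
    unfold inv3
    rw [if_neg, hx]
    rintro ⟨h, -⟩
    rw [hx] at h
    rw [h] at hn
    exact absurd hn (by decide)
  have h3' : ∃ x : X, inv3 x = 3 := by
    obtain ⟨z, hz⟩ := h0 6 (by decide)
    have ho2 : orderOf (z ^ 2) = 3 := by rw [orderOf_pow' z (by norm_num), hz]; rfl
    have ho3 : orderOf (z ^ 3) = 2 := by rw [orderOf_pow' z (by norm_num), hz]; rfl
    refine ⟨z ^ 2, ?_⟩
    unfold inv3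
    rw [if_neg, ho2]
    rintro ⟨-, h⟩
    exact h ⟨z ^ 3, ho3, by rw [← pow_add, ← pow_add]⟩
  have h9 : ∃ x : X, inv3 x = 9 := by
    have hdet : (!![1, 1, 0; 0, 1, 1; 0, 0, 1] : Matrix (Fin 3) (Fin 3) F).det = 1 := by
      rw [Matrix.det_fin_three]
      simp
    let u : SpecialLinearGroup (Fin 3) F := ⟨!![1, 1, 0; 0, 1, 1; 0, 0, 1], hdet⟩
    have h30 : (3 : F) = 0 := by
      have := CharP.cast_eq_zero F 3
      exact_mod_cast this
    have hu2 : (!![1, 1, 0; 0, 1, 1; 0, 0, 1] : Matrix (Fin 3) (Fin 3) F) * !![1, 1, 0; 0, 1, 1; 0, 0, 1] =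
        !![1, 2, 1; 0, 1, 2; 0, 0, 1] := by
      ext i j
      fin_cases i <;> fin_cases j <;> simp [Matrix.mul_apply, Fin.sum_univ_three] <;> norm_num
    have hu3 : (!![1, 2, 1; 0, 1, 2; 0, 0, 1] : Matrix (Fin 3) (Fin 3) F) * !![1, 1, 0; 0, 1, 1; 0, 0, 1] = 1 := by
      ext i j
      fin_cases i <;> fin_cases j <;> simp [Matrix.mul_apply, Fin.sum_univ_three] <;> linear_combination h30
    have hu : orderOf u = 3 := by
      refine orderOf_eq_prime ?_ ?_
      · apply Subtype.ext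
        rw [pow_succ, pow_two]
        change (!![1, 1, 0; 0, 1, 1; 0, 0, 1] : Matrix (Fin 3) (Fin 3) F) * !![1, 1, 0; 0, 1, 1; 0, 0, 1] *
          !![1, 1, 0; 0, 1, 1; 0, 0, 1] = 1
        rw [hu2, hu3]
      · intro h
        have h1 := congrArg (fun g : SpecialLinearGroup (Fin 3) F => (g : Matrix (Fin 3) (Fin 3) F) 0 1) h
        simp [u] at h1
    refine ⟨e u, ?_⟩
    unfold inv3
    rw [if_pos]
    refine ⟨by rw [MulEquiv.orderOf_eq, hu], ?_⟩
    rintro ⟨y, hy, hc⟩
    obtain ⟨v, rfl⟩ := e.surjective y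
    rw [MulEquiv.orderOf_eq] at hy
    rw [← map_mul, ← map_mul] at hc
    have hc' := e.injective hc
    have hv2 : v ^ 2 = 1 := by rw [← hy]; exact pow_orderOf_eq_one v
    have h1 := comm_unip h2F (y := v) (congrArg Subtype.val hc') (by
      rw [pow_two] at hv2
      exact congrArg Subtype.val hv2)
    rw [h1, orderOf_one] at hy
    norm_num at hy
  refine Eight.of_inv inv3 inv3_aut {1, 2, 4, 6, 8, 13, 3, 9} ?_ (by decide)
  intro m hm
  by_cases hm3 : m = 3
  · rw [hm3]; exact h3'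
  by_cases hm9 : m = 9
  · rw [hm9]; exact h9
  refine hord m ?_
  simp only [Finset.mem_insert, Finset.mem_singleton] at hm ⊢
  omega

/-- **`PSL₃(3)`.** -/
theorem eight_psl_three_three (h3 : Fintype.card F = 3) :
    Eight (Matrix.ProjectiveSpecialLinearGroup (Fin 3) F) := by
  have hcen : ∀ z : SpecialLinearGroup (Fin 3) F, z ∈ Subgroup.center (SpecialLinearGroup (Fin 3) F) → z = 1 := by
    intro z hz
    obtain ⟨r, hr, hrz⟩ := Matrix.SpecialLinearGroup.mem_center_iff.1 hz
    have h1 : r ^ 3 = r := by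
      have := FiniteField.pow_card r
      rwa [h3] at this
    have h2 : r = 1 := by
      rw [← h1]
      simpa using hr
    apply Subtype.ext
    change (z : Matrix (Fin 3) (Fin 3) F) = 1
    rw [← hrz, h2, map_one]
  let f : SpecialLinearGroup (Fin 3) F →* Matrix.ProjectiveSpecialLinearGroup (Fin 3) F := QuotientGroup.mk' _
  have hf : Function.Bijective f := by
    constructor
    · rw [injective_iff_map_eq_one]
      intro z hz
      exact hcen z ((QuotientGroup.eq_one_iff z).1 hz)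
    · exact QuotientGroup.mk'_surjective _
  let e := MulEquiv.ofBijective f hf
  have h := fun m (hm : Has (SpecialLinearGroup (Fin 2) F) m) => has_psl_of_lt (n := 3) (F := F) (by omega) hm
  refine eight_sl_three_three h3 e ?_
  intro m hm
  have h8 : Has (Matrix.ProjectiveSpecialLinearGroup (Fin 3) F) 8 := (has_sl3_eight h3).congr e
  have h13 : Has (Matrix.ProjectiveSpecialLinearGroup (Fin 3) F) 13 :=
    has_psl_singer (a := 3) (by omega) (by omega) (by rw [h3]; norm_num) (by rw [h3]; norm_num)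
  by_cases hm8 : m = 8
  · rw [hm8]; exact h8
  by_cases hm13 : m = 13
  · rw [hm13]; exact h13
  refine has_of_three h3 h ?_
  simp only [Finset.mem_insert, Finset.mem_singleton] at hm ⊢
  omega

end

end Cfsg.Agent.H193.K6
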