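import Cfsg.Agent.H193.K6.Lin
import Cfsg.Agent.H390.PslSpec
import Cfsg.Agent.ClassicalGeometry.AutPSL.Main
import Cfsg.Agent.Lib.FieldAutCard

/-!
# Eight classes of `PSL₂(q)`, `q = p^a`, `a ≥ 2`, `q ≠ 9` (helper193, S4876)

* `t2` : the square of the trace; `t2_aut`: automorphisms act on it as field automorphisms;
* `greedy` : many orbits;
* `eight_two` : `q + 1 > 14 a`;  `eight_25`;  `eightP_27`.
-/

set_option autoImplicit false

namespace Cfsg.Agent.H193.K6

open Matrix
open Cfsg.Agent.H390.PslSpec (tr comp tr_comp pr pr_surjective pr_eq_one_iff)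
open Cfsg.Agent.ClassicalGeometry.AutPSL

section trace

variable {F : Type*} [Field F]

/-- the square of the trace -/
noncomputable def t2 (x : Matrix.ProjectiveSpecialLinearGroup (Fin 2) F) : F :=
  (tr (Function.surjInv (pr_surjective (F := F)) x).1) ^ 2

theorem t2_pr (g : Matrix.SpecialLinearGroup (Fin 2) F) : t2 (pr F g) = (tr g.1) ^ 2 := by
  obtain ⟨h, hh⟩ : ∃ h, h = Function.surjInv (pr_surjective (F := F)) (pr F g) := ⟨_, rfl⟩
  have h1 : pr F h = pr F g := by
    rw [hh]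
    exact Function.surjInv_eq pr_surjective _
  have h2 : pr F (h⁻¹ * g) = 1 := by
    rw [map_mul, map_inv, h1, inv_mul_cancel]
  have h3 : g = h * (h⁻¹ * g) := by group
  have h4 : g.1 = h.1 * (h⁻¹ * g).1 := congrArg Subtype.val h3
  unfold t2
  rw [← hh]
  rcases (pr_eq_one_iff _).1 h2 with h5 | h5
  · rw [h5, mul_one] at h4
    rw [h4]
  · rw [h5, mul_neg, mul_one] at h4
    rw [h4]
    simp only [tr, Matrix.neg_apply]
    ring

theorem tr_eq (A : Matrix (Fin 2) (Fin 2) F) : tr A = A.trace := by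
  rw [Matrix.trace_fin_two]
  rfl

theorem t2_lift (A : GL (Fin 2) F) (σ : F ≃+* F) (x : Matrix.ProjectiveSpecialLinearGroup (Fin 2) F) :
    t2 (Auto.lift (Auto.cj A * Auto.fld σ) x) = σ (t2 x) := by
  obtain ⟨g, rfl⟩ := pr_surjective x
  have h1 : Auto.lift (Auto.cj A * Auto.fld σ) (pr F g) = pr F (Auto.cj A (Auto.fld σ g)) := rfl
  rw [h1, t2_pr, t2_pr, map_pow]
  congr 1
  have h2 : (Auto.cj A (Auto.fld σ g)).1 = (A : Matrix (Fin 2) (Fin 2) F) * (Auto.fld σ g).1 *
      ((A⁻¹ : GL (Fin 2) F) : Matrix (Fin 2) (Fin 2) F) := rfl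
  rw [h2, tr_eq, Matrix.trace_mul_comm, ← mul_assoc, ← Units.val_mul, inv_mul_cancel, Units.val_one, one_mul,
    ← tr_eq]
  have h3 : ∀ i j, (Auto.fld σ g).1 i j = σ (g.1 i j) := fun i j => rfl
  rw [tr, h3, h3, tr, map_add]

theorem t2_aut (p : ℕ) [Fact p.Prime] [CharP F p] [Finite F]
    (α : MulAut (Matrix.ProjectiveSpecialLinearGroup (Fin 2) F)) : ∃ σ : F ≃+* F, ∀ x, t2 (α x) = σ (t2 x) := by
  have := Fintype.ofFinite F
  obtain ⟨A, σ, rfl⟩ := Main.surj_two p α
  exact ⟨σ, t2_lift A σ⟩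

theorem t2_conj (y x : Matrix.ProjectiveSpecialLinearGroup (Fin 2) F) : t2 (MulAut.conj y x) = t2 x := by
  obtain ⟨g, rfl⟩ := pr_surjective x
  obtain ⟨h, rfl⟩ := pr_surjective y
  have h1 : MulAut.conj (pr F h) (pr F g) = pr F (h * g * h⁻¹) := by
    rw [MulAut.conj_apply, map_mul, map_mul, map_inv]
  rw [h1, t2_pr, t2_pr]
  congr 1
  have h2 : (h * g * h⁻¹).1 = h.1 * g.1 * (h⁻¹).1 := rfl
  have h3 : (h⁻¹).1 * h.1 = 1 := by
    have : (h⁻¹ * h).1 = (h⁻¹).1 * h.1 := rfl
    rw [← this, inv_mul_cancel]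
    rfl
  rw [h2, tr_eq, Matrix.trace_mul_comm, ← mul_assoc, h3, one_mul, ← tr_eq]

theorem exists_t2 (s : F) : ∃ x : Matrix.ProjectiveSpecialLinearGroup (Fin 2) F, t2 x = s ^ 2 :=
  ⟨pr F (comp s), by rw [t2_pr, tr_comp]⟩

end trace

/-! ### orbits -/

theorem greedy {α Γ : Type*} [Group Γ] [Finite Γ] [MulAction Γ α] [DecidableEq α] (Q : Finset α) :
    ∀ k : ℕ, k * Nat.card Γ < Q.card → ∃ T ⊆ Q, T.card = k + 1 ∧ ∀ s ∈ T, ∀ t ∈ T, ∀ g : Γ, g • s = t → s = t := by
  classical
  have := Fintype.ofFinite Γ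
  intro k
  induction k with
  | zero =>
    intro h
    obtain ⟨c, hc⟩ := Finset.card_pos.1 (show 0 < Q.card by omega)
    refine ⟨{c}, by simpa using hc, by simp, ?_⟩
    intro s hs t ht _ _
    rw [Finset.mem_singleton.1 hs, Finset.mem_singleton.1 ht]
  | succ k ih =>
    intro h
    obtain ⟨T, hTQ, hTc, hT⟩ := ih (by
      have : 1 ≤ Nat.card Γ := Nat.card_pos
      nlinarith)
    let U : Finset α := T.biUnion fun t => (Finset.univ : Finset Γ).image fun g => g • t
    have hU : U.card ≤ (k + 1) * Nat.card Γ := by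
      rw [← hTc, Nat.card_eq_fintype_card, ← Finset.card_univ]
      exact Finset.card_biUnion_le_card_mul _ _ _ fun t _ => Finset.card_image_le
    obtain ⟨c, hcQ, hcU⟩ := Finset.exists_mem_notMem_of_card_lt_card (lt_of_le_of_lt hU h)
    have hc : ∀ t ∈ T, ∀ g : Γ, g • t ≠ c := by
      intro t ht g hg
      exact hcU (Finset.mem_biUnion.2 ⟨t, ht, Finset.mem_image.2 ⟨g, Finset.mem_univ _, hg⟩⟩)
    have hcT : c ∉ T := fun h1 => hc c h1 1 (one_smul _ _)
    refine ⟨insert c T, ?_, ?_, ?_⟩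
    · intro x hx
      rcases Finset.mem_insert.1 hx with rfl | hx
      · exact hcQ
      · exact hTQ hx
    · rw [Finset.card_insert_of_notMem hcT, hTc]
    · intro s hs t ht g hg
      rcases Finset.mem_insert.1 hs with hs' | hs' <;> rcases Finset.mem_insert.1 ht with ht' | ht'
      · rw [hs', ht']
      · exfalso
        refine hc t ht' g⁻¹ ?_
        rw [← hg, inv_smul_smul, hs']
      · exact absurd (hg.trans ht') (hc s hs' g)
      · exact hT s hs' t ht' g hg

section count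

variable {F : Type*} [Field F] [Fintype F]

/-- the number of squares -/
theorem card_squares [DecidableEq F] :
    Fintype.card F + 1 ≤ 2 * ((Finset.univ : Finset F).image fun s => s ^ 2).card := by
  have h1 : ∀ b ∈ ((Finset.univ : Finset F).image fun s => s ^ 2),
      ((Finset.univ : Finset F).filter fun s => s ^ 2 = b).card ≤ if b = 0 then 1 else 2 := by
    intro b hb
    obtain ⟨s, -, rfl⟩ := Finset.mem_image.1 hb
    split_ifs with h0
    · have hs : s = 0 := by
        exact pow_eq_zero_iff (two_ne_zero) |>.1 h0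
      refine (Finset.card_le_card (t := {0}) ?_).trans (by simp)
      intro x hx
      have h3 := (Finset.mem_filter.1 hx).2
      rw [h0] at h3
      exact Finset.mem_singleton.2 (pow_eq_zero_iff two_ne_zero |>.1 h3)
    · refine (Finset.card_le_card (t := {s, -s}) ?_).trans Finset.card_le_two
      intro x hx
      have h3 := (Finset.mem_filter.1 hx).2
      rw [Finset.mem_insert, Finset.mem_singleton]
      exact sq_eq_sq_iff_eq_or_eq_neg.1 h3
  have h2 := Finset.card_eq_sum_card_image (fun s : F => s ^ 2) Finset.univ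
  rw [Finset.card_univ] at h2
  have h3 := Finset.sum_le_sum h1
  rw [← h2] at h3
  have h0 : (0 : F) ∈ ((Finset.univ : Finset F).image fun s => s ^ 2) :=
    Finset.mem_image.2 ⟨0, Finset.mem_univ _, by simp⟩
  have h4 : (∑ b ∈ ((Finset.univ : Finset F).image fun s => s ^ 2), if b = 0 then 1 else 2) + 1 =
      2 * ((Finset.univ : Finset F).image fun s => s ^ 2).card := by
    rw [← Finset.add_sum_erase _ _ h0, if_pos rfl]
    have h5 : ∑ b ∈ (((Finset.univ : Finset F).image fun s => s ^ 2)).erase 0, (if b = 0 then 1 else 2) =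
        ∑ b ∈ (((Finset.univ : Finset F).image fun s => s ^ 2)).erase 0, 2 := by
      refine Finset.sum_congr rfl fun b hb => ?_
      rw [if_neg (Finset.ne_of_mem_erase hb)]
    rw [h5, Finset.sum_const, Finset.card_erase_of_mem h0, smul_eq_mul]
    have : 0 < ((Finset.univ : Finset F).image fun s => s ^ 2).card := Finset.card_pos.2 ⟨0, h0⟩
    omega
  omega

/-- **Many classes under `Γ ≤ Aut(PSL₂(F))`**, when the field automorphisms induced by `Γ` lie in `H`. -/
theorem exists_classes (H : Subgroup (F ≃+* F))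
    (hH : 14 * Nat.card H < Fintype.card F + 1)
    (Γ : Set (MulAut (Matrix.ProjectiveSpecialLinearGroup (Fin 2) F)))
    (hΓ : ∀ α ∈ Γ, ∃ σ ∈ H, ∀ x, t2 (α x) = σ (t2 x)) :
    ∃ T : Finset (Matrix.ProjectiveSpecialLinearGroup (Fin 2) F), 8 ≤ T.card ∧
      ∀ x ∈ T, ∀ y ∈ T, ∀ σ ∈ Γ, σ x = y → x = y := by
  classical
  have hfin : Finite (F ≃+* F) := Finite.of_injective (fun e : F ≃+* F => (e : F → F)) DFunLike.coe_injective
  have hq := card_squares (F := F)
  obtain ⟨T, hTQ, hTc, hT⟩ := greedy (Γ := H) ((Finset.univ : Finset F).image fun s => s ^ 2) 7 (by omega)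
  have hex : ∀ b : F, ∃ x : Matrix.ProjectiveSpecialLinearGroup (Fin 2) F, b ∈ T → t2 x = b := by
    intro b
    by_cases hb : b ∈ T
    · obtain ⟨s, -, hs⟩ := Finset.mem_image.1 (hTQ hb)
      obtain ⟨x, hx⟩ := exists_t2 s
      exact ⟨x, fun _ => by rw [hx]; exact hs⟩
    · exact ⟨1, fun h => absurd h hb⟩
  choose f hf using hex
  refine ⟨T.image f, ?_, ?_⟩
  · rw [Finset.card_image_of_injOn, hTc]
    intro a ha b hb hab
    rw [← hf a ha, ← hf b hb, hab]
  · intro x hx y hy α hα hxy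
    obtain ⟨a, ha, rfl⟩ := Finset.mem_image.1 hx
    obtain ⟨b, hb, rfl⟩ := Finset.mem_image.1 hy
    obtain ⟨σ, hσ, h1⟩ := hΓ α hα
    have h2 := h1 (f a)
    rw [hxy, hf a ha, hf b hb] at h2
    have h3 := hT a ha b hb ⟨σ, hσ⟩ h2.symm
    rw [h3]

/-- **`q + 1 > 14 a`.** -/
theorem eight_two (p : ℕ) [Fact p.Prime] [CharP F p] {a : ℕ} (ha : 1 ≤ a)
    (hF : Fintype.card F = p ^ a) (h : 14 * a < p ^ a + 1) :
    Eight (Matrix.ProjectiveSpecialLinearGroup (Fin 2) F) := by
  obtain ⟨T, h1, h2⟩ := exists_classes ⊤ (by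
    rw [Subgroup.card_top, Lib.FieldAutCard.card_ringAut ha hF, hF]
    exact h) Set.univ (fun α _ => by
      obtain ⟨σ, hσ⟩ := t2_aut p α
      exact ⟨σ, Subgroup.mem_top _, hσ⟩)
  exact ⟨T, h1, fun x hx y hy σ hσ => h2 x hx y hy σ (Set.mem_univ _) hσ⟩

/-- **`q = 25`.** -/
theorem eight_25 (hF : Fintype.card F = 25) : Eight (Matrix.ProjectiveSpecialLinearGroup (Fin 2) F) := by
  have : Fact (Nat.Prime 5) := ⟨Nat.prime_five⟩
  have hcp : CharP F 5 := by
    obtain ⟨p, hp⟩ := CharP.exists F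
    have hpp : p.Prime := CharP.char_is_prime F p
    have h1 : p ∣ 5 ^ 2 := by
      have := dvd_card_of_charP (F := F) (p := p)
      rw [hF] at this
      exact this
    rwa [(Nat.prime_dvd_prime_iff_eq hpp Nat.prime_five).1 (hpp.dvd_of_dvd_pow h1)] at hp
  have h1 := H390.PslSpec.range_orderOf (F := F) (p := 5) (by rw [hF]; norm_num)
  have h2 : ∀ n, n ∈ H390.PslSpec.specSet 5 25 → Has (Matrix.ProjectiveSpecialLinearGroup (Fin 2) F) n := by
    intro n hn
    rw [← hF, ← h1] at hn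
    exact hn
  have hd : H390.PslSpec.dd 25 = 2 := by decide
  refine Eight.of_has {1, 2, 3, 4, 5, 6, 12, 13} ?_ (by decide)
  intro n hn
  refine h2 n ?_
  simp only [Finset.mem_insert, Finset.mem_singleton] at hn
  rw [H390.PslSpec.specSet, hd]
  rcases hn with rfl | rfl | rfl | rfl | rfl | rfl | rfl | rfl
  · left; norm_num
  · right; left; norm_num
  · right; left; norm_num
  · right; left; norm_num
  · left; norm_num
  · right; left; norm_num
  · right; left; norm_num
  · right; right; norm_num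

/-- **`q = 27`, `p = 3`.** -/
theorem eightP_27 (hF : Fintype.card F = 27) : EightP 3 (Matrix.ProjectiveSpecialLinearGroup (Fin 2) F) := by
  have : Fact (Nat.Prime 3) := ⟨Nat.prime_three⟩
  have hcp : CharP F 3 := by
    obtain ⟨p, hp⟩ := CharP.exists F
    have hpp : p.Prime := CharP.char_is_prime F p
    have h1 : p ∣ 3 ^ 3 := by
      have := dvd_card_of_charP (F := F) (p := p)
      rw [hF] at this
      exact this
    rwa [(Nat.prime_dvd_prime_iff_eq hpp Nat.prime_three).1 (hpp.dvd_of_dvd_pow h1)] at hp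
  have h2F : (2 : F) ≠ 0 := by
    intro h
    have h1 : ((2 : ℕ) : F) = 0 := by exact_mod_cast h
    rw [CharP.cast_eq_zero_iff F 3] at h1
    norm_num at h1
  intro Γ hΓ hidx
  refine exists_classes ⊥ (by rw [Subgroup.card_bot, hF]; norm_num) Γ ?_
  intro α hα
  obtain ⟨σ, hσ⟩ := t2_aut 3 α
  -- `α ^ m` is inner
  have hn : ((inn (Matrix.ProjectiveSpecialLinearGroup (Fin 2) F)).subgroupOf Γ).Normal := by
    have hn' : (inn (Matrix.ProjectiveSpecialLinearGroup (Fin 2) F)).Normal := by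
      refine ⟨?_⟩
      rintro _ ⟨x, rfl⟩ g
      exact ⟨g x, by
        ext y
        simp [MulAut.conj_apply, MulAut.mul_apply]⟩
    infer_instance
  obtain ⟨m, hm⟩ : ∃ m, m = (inn (Matrix.ProjectiveSpecialLinearGroup (Fin 2) F)).relIndex Γ := ⟨_, rfl⟩
  have h1 : α ^ m ∈ inn (Matrix.ProjectiveSpecialLinearGroup (Fin 2) F) := by
    have h2 := Subgroup.pow_index_mem ((inn (Matrix.ProjectiveSpecialLinearGroup (Fin 2) F)).subgroupOf Γ)
      (⟨α, hα⟩ : Γ)
    rw [Subgroup.mem_subgroupOf] at h2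
    rw [hm]
    exact h2
  have hpow : ∀ k : ℕ, ∀ x, t2 ((α ^ k) x) = (σ ^ k : F ≃+* F) (t2 x) := by
    intro k
    induction k with
    | zero => intro x; rfl
    | succ k ih =>
      intro x
      rw [pow_succ', pow_succ']
      change t2 (α ((α ^ k) x)) = σ ((σ ^ k : F ≃+* F) (t2 x))
      rw [hσ, ih]
  obtain ⟨y, hy⟩ := h1
  have h2 : ∀ s : F, (σ ^ m : F ≃+* F) (s ^ 2) = s ^ 2 := by
    intro s
    obtain ⟨x, hx⟩ := exists_t2 s
    rw [← hx, ← hpow, ← hy, t2_conj]
  have h3 : σ ^ m = 1 := by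
    ext s
    have e1 := h2 (s + 1)
    have e2 := h2 s
    have e3 : (s + 1) ^ 2 = s ^ 2 + 2 * s + 1 := by ring
    rw [e3, map_add, map_add, e2, map_one, map_mul, map_ofNat] at e1
    have e4 : 2 * ((σ ^ m : F ≃+* F) s) = 2 * s := by linear_combination e1
    exact mul_left_cancel₀ h2F e4
  have hcard : Nat.card (F ≃+* F) = 3 := Lib.FieldAutCard.card_ringAut (p := 3) (by norm_num) (by rw [hF]; norm_num)
  have h4 : σ ^ 3 = 1 := by
    rw [← hcard]
    exact pow_card_eq_one'
  have hco : Nat.Coprime 3 m := by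
    rw [Nat.Prime.coprime_iff_not_dvd Nat.prime_three, hm]
    exact hidx
  have h5 : σ = 1 := by
    have h6 : orderOf σ ∣ 1 := by
      rw [← hco]
      exact Nat.dvd_gcd (orderOf_dvd_of_pow_eq_one h4) (orderOf_dvd_of_pow_eq_one h3)
    exact orderOf_eq_one_iff.1 (Nat.dvd_one.1 h6)
  exact ⟨σ, by rw [h5]; exact one_mem _, hσ⟩

/-- **`PSL₂(q)`.** -/
theorem eightP_two (p : ℕ) [hp : Fact p.Prime] [CharP F p] (hp2 : p ≠ 2) {a : ℕ} (ha : 2 ≤ a)
    (hF : Fintype.card F = p ^ a) (h9 : p ^ a ≠ 9) : EightP p (Matrix.ProjectiveSpecialLinearGroup (Fin 2) F) := by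
  have hp3 : 3 ≤ p := by
    have := hp.out.two_le
    omega
  by_cases h27 : p ^ a = 27
  · have h3 : p = 3 := by
      have h1 : p ∣ 3 ^ 3 := by
        have : p ∣ p ^ a := dvd_pow_self p (by omega)
        rw [h27] at this
        exact this
      exact (Nat.prime_dvd_prime_iff_eq hp.out Nat.prime_three).1 (hp.out.dvd_of_dvd_pow h1)
    subst h3
    exact eightP_27 (by rw [hF, h27])
  by_cases h25 : p ^ a = 25
  · exact (eight_25 (by rw [hF, h25])).eightP p
  refine (eight_two p (by omega) hF ?_).eightP p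
  -- arithmetic
  have key : ∀ b : ℕ, 4 ≤ b → 14 * b < 3 ^ b + 1 := by
    intro b hb
    induction b, hb using Nat.le_induction with
    | base => norm_num
    | succ b hb ih =>
      rw [pow_succ]
      omega
  rcases Nat.lt_or_ge a 4 with h4 | h4
  · have h23 : a = 2 ∨ a = 3 := by omega
    rcases h23 with rfl | rfl
    · have h7 : 7 ≤ p := by
        by_contra hlt
        have : p = 3 ∨ p = 4 ∨ p = 5 ∨ p = 6 := by omega
        rcases this with rfl | rfl | rfl | rfl
        · exact h9 (by norm_num)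
        · exact absurd hp.out (by norm_num)
        · exact h25 (by norm_num)
        · exact absurd hp.out (by norm_num)
      nlinarith
    · have h5 : 5 ≤ p := by
        by_contra hlt
        have : p = 3 ∨ p = 4 := by omega
        rcases this with rfl | rfl
        · exact h27 (by norm_num)
        · exact absurd hp.out (by norm_num)
      have : 5 ^ 3 ≤ p ^ 3 := Nat.pow_le_pow_left h5 3
      omega
  · have h1 := key a h4
    have : 3 ^ a ≤ p ^ a := Nat.pow_le_pow_left hp3 a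
    omega

end count

end Cfsg.Agent.H193.K6
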