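import Cfsg.Agent.H193.K6.Lin
import Cfsg.Agent.H376.Odd8Sp
import Cfsg.Agent.LieClassical.FieldTransfer

/-!
# Eight classes of `PSp_{2m}(q)`, `m ≥ 2`, `q` odd (helper193, S4876)
-/

set_option autoImplicit false

namespace Cfsg.Agent.H193.K6

open Matrix Cfsg.Agent.H376.SpEmb Cfsg.Agent.H376.Odd8

section

variable {F : Type*} [Field F]

/-- elements of the block subgroups -/
theorem has_psp_of_block (h2 : (2 : F) ≠ 0) {a b m : ℕ} (hb : 1 ≤ b) (h : a + b = m) {k : ℕ}
    (hk : Has (Matrix.symplecticGroup (Fin a) F) k) : Has (Cfsg.PSp m F) k := by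
  obtain ⟨φ, hφ, hφ1⟩ := exists_phi (F := F) h
  refine hk.map ((QuotientGroup.mk' (Subgroup.center (Matrix.symplecticGroup (Fin m) F))).comp
    (φ.comp (MonoidHom.inl _ _))) ?_
  rw [injective_iff_map_eq_one]
  intro x hx
  have h1 : φ (x, 1) ∈ Subgroup.center (Matrix.symplecticGroup (Fin m) F) := (QuotientGroup.eq_one_iff _).1 hx
  rcases ClassicalGeometry.SympInvolutions.center_eq h1 with h3 | h3
  · have h4 : φ (x, 1) = φ 1 := by
      rw [map_one]
      exact Subtype.ext h3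
    exact congrArg Prod.fst (hφ h4)
  · exfalso
    have h4 := (hφ1 _ h3).2
    have h5 : (1 : Matrix (Fin b ⊕ Fin b) (Fin b ⊕ Fin b) F) = -1 := h4
    have h6 := congrFun (congrFun h5 (Sum.inl ⟨0, hb⟩)) (Sum.inl ⟨0, hb⟩)
    rw [Matrix.neg_apply, Matrix.one_apply_eq] at h6
    apply h2
    linear_combination h6

/-- `SL₂` as a symplectic group -/
theorem has_sp_one {k : ℕ} (hk : Has (SpecialLinearGroup (Fin 2) F) k) : Has (Matrix.symplecticGroup (Fin 1) F) k :=
  hk.map (ofSLTwo (F := F) (K := F) (Module.Basis.singleton (Fin 1) F)) (ofSLTwo_injective _)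

end

section

variable {F : Type*} [Field F] [Fintype F] {m : ℕ}

theorem two_ne_zero_of_odd (h : Odd (Fintype.card F)) : (2 : F) ≠ 0 := by
  obtain ⟨-, -, -, -, h2, -⟩ := exists_char h
  exact h2

/-- `SL₂(q²) ≤ Sp₄(q)` -/
theorem exists_ext (p : ℕ) [Fact p.Prime] [CharP F p] :
    ∃ (K : Type) (_ : Field K) (_ : Fintype K) (_ : CharP K p), Fintype.card K = Fintype.card F ^ 2 ∧
    ∀ k, Has (SpecialLinearGroup (Fin 2) K) k → Has (Matrix.symplecticGroup (Fin 2) F) k := by
  have hc : Nat.card (FiniteField.Extension F p 2) = Nat.card F ^ 2 := FiniteField.natCard_extension F p 2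
  have hfin : Fintype (FiniteField.Extension F p 2) := Fintype.ofFinite _
  have hcp : CharP (FiniteField.Extension F p 2) p :=
    charP_of_injective_algebraMap (algebraMap F (FiniteField.Extension F p 2)).injective p
  refine ⟨FiniteField.Extension F p 2, inferInstance, hfin, hcp, ?_, ?_⟩
  · rw [← Nat.card_eq_fintype_card, hc, Nat.card_eq_fintype_card]
  · intro k hk
    let b := Module.finBasisOfFinrankEq F (FiniteField.Extension F p 2) (FiniteField.finrank_extension F p 2)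
    exact hk.map (ofSLTwo b) (ofSLTwo_injective b)

/-- **`PSp_{2m}(q)`, `m ≥ 3`, `q` odd.** -/
theorem eight_psp_three {p : ℕ} [hp : Fact p.Prime] [CharP F p] (hp2 : p ≠ 2) (hm : 3 ≤ m)
    (hodd : Odd (Fintype.card F)) : Eight (Cfsg.PSp m F) := by
  have h2 := two_ne_zero_of_odd hodd
  obtain ⟨K, _, _, _, hK, hh⟩ := exists_ext (F := F) p
  have h3 : 3 ≤ Fintype.card F := by
    have := Fintype.one_lt_card (α := F)
    obtain ⟨r, hr⟩ := hodd
    omega
  refine eight_of_seven (F := K) hp2 ?_ ?_ ?_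
  · rw [hK]
    nlinarith
  · rw [hK]
    exact hodd.pow
  · intro k hk
    exact has_psp_of_block (a := 2) (b := m - 2) h2 (by omega) (by omega) (hh k hk)

/-- an element of prime order `≠ 2` -/
theorem has_psp_prime (hm : 2 ≤ m) {r : ℕ} (hr : r.Prime) (hr2 : r ≠ 2)
    (hd : r ∣ Nat.card (Matrix.symplecticGroup (Fin m) F)) : Has (Cfsg.PSp m F) r := by
  have : Fact r.Prime := ⟨hr⟩
  obtain ⟨x, hx⟩ := exists_prime_orderOf_dvd_card' r hd
  refine ⟨QuotientGroup.mk x, ?_⟩
  refine orderOf_eq_prime ?_ ?_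
  · rw [← QuotientGroup.mk_pow, ← hx, pow_orderOf_eq_one]
    rfl
  · intro h
    have h1 : x ∈ Subgroup.center (Matrix.symplecticGroup (Fin m) F) := (QuotientGroup.eq_one_iff _).1 h
    have h2 : x ^ 2 = 1 := by
      apply Subtype.ext
      change (x : Matrix (Fin m ⊕ Fin m) (Fin m ⊕ Fin m) F) ^ 2 = 1
      rcases ClassicalGeometry.SympInvolutions.center_eq h1 with h3 | h3
      · rw [h3, one_pow]
      · rw [h3, neg_one_sq]
    have h3 := orderOf_dvd_of_pow_eq_one h2
    rw [hx] at h3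
    exact hr2 ((Nat.prime_dvd_prime_iff_eq hr Nat.prime_two).1 h3)

/-- **`PSp₄(q)`, `q ≥ 5` odd.** -/
theorem eight_psp_two {p : ℕ} [hp : Fact p.Prime] [CharP F p] (hp2 : p ≠ 2)
    (hodd : Odd (Fintype.card F)) (h5 : 5 ≤ Fintype.card F) : Eight (Cfsg.PSp 2 F) := by
  have h2 := two_ne_zero_of_odd hodd
  have h := fun k (hk : Has (SpecialLinearGroup (Fin 2) F) k) =>
    has_psp_of_block (a := 1) (b := 1) (m := 2) h2 le_rfl rfl (has_sp_one hk)
  by_cases h7 : 7 ≤ Fintype.card F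
  · exact eight_of_seven hp2 h7 hodd h
  · have h5' : Fintype.card F = 5 := by
      obtain ⟨r, hr⟩ := hodd
      omega
    refine eight_of_five h5' h (r := 13) (has_psp_prime (by norm_num) (by norm_num) (by norm_num) ?_) (by decide)
    rw [LieClassical.SympCount.card_symplecticGroup, h5']
    refine Dvd.dvd.mul_left ?_ _
    simp only [Finset.prod_range_succ, Finset.prod_range_zero]
    norm_num

/-! ### `PSp₄(3)` -/

/-- order 9 -/
def s9 : Matrix (Fin 2 ⊕ Fin 2) (Fin 2 ⊕ Fin 2) (ZMod 3) :=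
  fromBlocks !![0, 0; 1, 1] !![1, 2; 0, 0] !![0, 1; 0, 0] !![0, 0; 1, 0]

/-- order 12 -/
def s12 : Matrix (Fin 2 ⊕ Fin 2) (Fin 2 ⊕ Fin 2) (ZMod 3) :=
  fromBlocks !![0, 0; 0, 0] !![1, 0; 0, 2] !![2, 0; 0, 1] !![2, 0; 0, 0]

/-- order 5 -/
def s5 : Matrix (Fin 2 ⊕ Fin 2) (Fin 2 ⊕ Fin 2) (ZMod 3) :=
  fromBlocks !![0, 0; 0, 0] !![2, 2; 0, 2] !![1, 0; 2, 1] !![0, 0; 0, 2]

theorem has_of_matrix {m : ℕ} {A : Matrix (Fin m ⊕ Fin m) (Fin m ⊕ Fin m) (ZMod 3)}
    (hA : A ∈ Matrix.symplecticGroup (Fin m) (ZMod 3)) {n : ℕ} (hn : 0 < n) (h1 : A ^ n = 1)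
    (h2 : ∀ r ∈ n.primeFactors, A ^ (n / r) ≠ 1 ∧ A ^ (n / r) ≠ -1) : Has (Cfsg.PSp m (ZMod 3)) n := by
  let x : Matrix.symplecticGroup (Fin m) (ZMod 3) := ⟨A, hA⟩
  refine ⟨QuotientGroup.mk x, ?_⟩
  have hx : (QuotientGroup.mk x : Cfsg.PSp m (ZMod 3)) ^ n = 1 := by
    rw [← QuotientGroup.mk_pow]
    have : x ^ n = 1 := Subtype.ext h1
    rw [this]
    rfl
  refine orderOf_eq_of_pow_and_pow_div_prime hn hx ?_
  intro r hr hrn h
  rw [← QuotientGroup.mk_pow] at h
  have h3 : x ^ (n / r) ∈ Subgroup.center (Matrix.symplecticGroup (Fin m) (ZMod 3)) := (QuotientGroup.eq_one_iff _).1 h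
  obtain ⟨h4, h5⟩ := h2 r (Nat.mem_primeFactors.2 ⟨hr, hrn, hn.ne'⟩)
  rcases ClassicalGeometry.SympInvolutions.center_eq h3 with h6 | h6
  · exact h4 h6
  · exact h5 h6

theorem eight_psp_two_three (h3 : Fintype.card F = 3) : Eight (Cfsg.PSp 2 F) := by
  have e : Cfsg.PSp 2 (ZMod 3) ≃* Cfsg.PSp 2 F :=
    LieClassical.FieldTransfer.pspCongr 2 (ZMod.ringEquivOfPrime F Nat.prime_three h3)
  have h9 : Has (Cfsg.PSp 2 F) 9 := by
    refine (has_of_matrix (A := s9) (by rw [SymplecticGroup.mem_iff]; decide) (by norm_num) (by decide) ?_).congr e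
    rw [show Nat.primeFactors 9 = {3} by decide +kernel]
    intro r hr
    rw [Finset.mem_singleton] at hr
    subst hr
    constructor <;> decide
  have h12 : Has (Cfsg.PSp 2 F) 12 := by
    refine (has_of_matrix (A := s12) (by rw [SymplecticGroup.mem_iff]; decide) (by norm_num) (by decide) ?_).congr e
    rw [show Nat.primeFactors 12 = {2, 3} by decide +kernel]
    intro r hr
    rw [Finset.mem_insert, Finset.mem_singleton] at hr
    rcases hr with rfl | rfl <;> constructor <;> decide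
  have h5 : Has (Cfsg.PSp 2 F) 5 := by
    refine (has_of_matrix (A := s5) (by rw [SymplecticGroup.mem_iff]; decide) (by norm_num) (by decide) ?_).congr e
    rw [show Nat.primeFactors 5 = {5} by decide +kernel]
    intro r hr
    rw [Finset.mem_singleton] at hr
    subst hr
    constructor <;> decide
  have hfin : Finite (Cfsg.PSp 2 F) := Quotient.finite _
  refine Eight.of_has {1, 2, 3, 4, 6, 12, 9, 5} ?_ (by decide)
  intro k hk
  simp only [Finset.mem_insert, Finset.mem_singleton] at hk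
  rcases hk with rfl | rfl | rfl | rfl | rfl | rfl | rfl | rfl
  · exact h12.dvd (by norm_num)
  · exact h12.dvd (by norm_num)
  · exact h12.dvd (by norm_num)
  · exact h12.dvd (by norm_num)
  · exact h12.dvd (by norm_num)
  · exact h12
  · exact h9
  · exact h5

/-- **`PSp_{2m}(q)`, `m ≥ 2`, `q` odd.** -/
theorem eight_psp {p : ℕ} [hp : Fact p.Prime] [CharP F p] (hp2 : p ≠ 2) (hm : 2 ≤ m)
    (hodd : Odd (Fintype.card F)) : Eight (Cfsg.PSp m F) := by
  rcases Nat.lt_or_ge 2 m with h | h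
  · exact eight_psp_three hp2 h hodd
  · obtain rfl : m = 2 := by omega
    rcases Nat.lt_or_ge (Fintype.card F) 5 with h5 | h5
    · have := Fintype.one_lt_card (α := F)
      refine eight_psp_two_three ?_
      obtain ⟨r, hr⟩ := hodd
      omega
    · exact eight_psp_two hp2 hodd h5

end

end Cfsg.Agent.H193.K6
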