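import Cfsg.Agent.H193.K6.Lin
import Cfsg.Agent.Classification.QDW.SUTwoTrace

/-!
# Eight classes of `PSU_n(q)`, `n ≥ 3`, `q` odd (helper193, S4876)
-/

set_option autoImplicit false

namespace Cfsg.Agent.H193.K6

open Matrix Cfsg.Agent.H72 Cfsg.Agent.H186 Cfsg.Agent.H103.UniBlock

variable {F : Type*} [Field F] [Fintype F] {q n : ℕ}

theorem exists_K (hF : Fintype.card F = q ^ 2) :
    ∃ (K : Type) (_ : Field K) (_ : Fintype K) (_ : K →+* F), Fintype.card K = q := by
  have hq2 : IsPrimePow (q ^ 2) := hF ▸ Fintype.isPrimePow_card_of_field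
  obtain ⟨p, m, hp, hm, hq⟩ := (isPrimePow_nat_iff q).1 ((isPrimePow_pow_iff (by norm_num)).1 hq2)
  have : Fact p.Prime := ⟨hp⟩
  let _ : Fintype (GaloisField p m) := Fintype.ofFinite _
  have hK : Fintype.card (GaloisField p m) = q := by
    rw [← Nat.card_eq_fintype_card, GaloisField.card p m (by omega), hq]
  obtain ⟨f, -⟩ := Cfsg.Agent.Classification.QDW.SUTwoTrace.exists_hom hF hK
  exact ⟨GaloisField p m, inferInstance, inferInstance, f, hK⟩

/-- `SL₂(q) ≤ SU₂` -/
theorem blockU_of_has {K : Type*} [Field K] [Fintype K] (hK : Fintype.card K = q) (f : K →+* F) {m : ℕ}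
    (h : Has (SpecialLinearGroup (Fin 2) K) m) : AdjPSU.HasBlock F q 2 m := by
  obtain ⟨u, rfl⟩ := h
  have hpow : ∀ k : ℕ, ((SpecialLinearGroup.map f (u ^ k) : SpecialLinearGroup (Fin 2) F) : Matrix (Fin 2) (Fin 2) F) =
      ((SpecialLinearGroup.map f u : SpecialLinearGroup (Fin 2) F) : Matrix (Fin 2) (Fin 2) F) ^ k := fun k => by
    rw [map_pow]
    exact Matrix.SpecialLinearGroup.coe_pow _ k
  have hst : st q ((SpecialLinearGroup.map f u : SpecialLinearGroup (Fin 2) F) : Matrix (Fin 2) (Fin 2) F) =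
      ((SpecialLinearGroup.map f u : SpecialLinearGroup (Fin 2) F) : Matrix (Fin 2) (Fin 2) F)ᵀ := by
    ext i j
    rw [st_apply, Matrix.transpose_apply]
    change (f (u.1 j i)) ^ q = f (u.1 j i)
    rw [← map_pow, ← hK, FiniteField.pow_card]
  have hinj : ∀ x y : SpecialLinearGroup (Fin 2) K, SpecialLinearGroup.map f x = SpecialLinearGroup.map f y → x = y := by
    intro x y hxy
    apply Subtype.ext
    ext i j
    have h1 := congrArg (fun g : SpecialLinearGroup (Fin 2) F => (g : Matrix (Fin 2) (Fin 2) F) i j) hxy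
    exact f.injective h1
  refine ⟨(SpecialLinearGroup.map f u : SpecialLinearGroup (Fin 2) F), ⟨!![0, 1; -1, 0], ?_, ?_⟩,
    (SpecialLinearGroup.map f u).2, ?_, ?_⟩
  · rw [Matrix.isUnit_iff_isUnit_det, Matrix.det_fin_two_of]
    simp
  · rw [hst]
    obtain ⟨A, hA⟩ : ∃ A : Matrix (Fin 2) (Fin 2) F, A =
      ((SpecialLinearGroup.map f u : SpecialLinearGroup (Fin 2) F) : Matrix (Fin 2) (Fin 2) F) := ⟨_, rfl⟩
    have hdet : A.det = 1 := by rw [hA]; exact (SpecialLinearGroup.map f u).2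
    rw [← hA]
    rw [Matrix.det_fin_two] at hdet
    ext i j
    fin_cases i <;> fin_cases j <;> simp [Matrix.mul_apply, Fin.sum_univ_two] <;>
      first
      | ring1
      | linear_combination hdet
      | linear_combination -hdet
  · rw [← hpow, pow_orderOf_eq_one, map_one]
    rfl
  · intro k hk
    apply orderOf_dvd_of_pow_eq_one
    apply hinj
    rw [map_one]
    apply Subtype.ext
    exact (hpow k).trans hk

theorem has_psu_of_has (hF : Fintype.card F = q ^ 2) (hn : 3 ≤ n) {K : Type*} [Field K] [Fintype K]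
    (hK : Fintype.card K = q) (f : K →+* F) {m : ℕ}
    (h : Has (SpecialLinearGroup (Fin 2) K) m) : Has (Cfsg.PSU n F q) m :=
  AdjPSU.exists_order_of_block_lt hF hn (blockU_of_has hK f h) (by omega) m dvd_rfl

/-- a block of full size, `gcd(n, q + 1) = 1` -/
theorem has_psu_full (hF : Fintype.card F = q ^ 2) (hn : 3 ≤ n) (hco : Nat.Coprime n (q + 1)) {d : ℕ}
    (h : AdjPSU.HasBlock F q n d) : Has (Cfsg.PSU n F q) d := by
  obtain ⟨A, hA, hdet, h1, h2⟩ := h
  have : Nonempty (Fin n) := ⟨⟨0, by omega⟩⟩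
  refine AdjPSU.exists_order_of_index hF hn (Equiv.refl _) hA hdet (N := d) ?_ d dvd_rfl
  intro k c hk
  have h3 : c ^ (q + 1) = 1 := AdjPSU.scalar_pow hF (ι := Fin n) (AdjPSU.uni_of_eq hk (AdjPSU.uni_pow hF hA k))
  have h4 : c ^ n = 1 := by
    have h5 : (A ^ k).det = 1 := by rw [Matrix.det_pow, hdet, one_pow]
    rw [hk, Matrix.det_smul, Matrix.det_one, mul_one, Fintype.card_fin] at h5
    exact h5
  have h5 : c = 1 := by
    have h6 : orderOf c ∣ 1 := by
      rw [← hco]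
      exact Nat.dvd_gcd (orderOf_dvd_of_pow_eq_one h4) (orderOf_dvd_of_pow_eq_one h3)
    exact orderOf_eq_one_iff.1 (Nat.dvd_one.1 h6)
  rw [h5, one_smul] at hk
  exact h2 k hk

theorem diag_pow3 (a b c : F) (k : ℕ) : (Matrix.diagonal ![a, b, c]) ^ k = Matrix.diagonal ![a ^ k, b ^ k, c ^ k] := by
  rw [Matrix.diagonal_pow]
  congr 1
  ext i
  fin_cases i <;> rfl

/-- the block of order `q² - 1` -/
theorem block_torus (hF : Fintype.card F = q ^ 2) : AdjPSU.HasBlock F q 3 (q ^ 2 - 1) := by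
  classical
  have hq := Cfsg.Agent.ClassicalGeometry.GUBasic.two_le hF
  obtain ⟨y, hy⟩ := IsCyclic.exists_generator (α := Fˣ)
  have hordy : orderOf y = q ^ 2 - 1 := by
    rw [orderOf_eq_card_of_forall_mem_zpowers hy, Nat.card_units, Nat.card_eq_fintype_card, hF]
  have hyq : (y : F) ^ (q ^ 2) = y := by rw [← hF, FiniteField.pow_card]
  have hy0 : (y : F) ≠ 0 := y.ne_zero
  have hy1 : (y : F) ^ (q ^ 2 - 1) = 1 := by
    rw [← Units.val_pow_eq_pow_val, ← hordy, pow_orderOf_eq_one, Units.val_one]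
  have hfac : (q - 1) * (q + 1) = q ^ 2 - 1 := by
    have := Nat.sq_sub_sq q 1
    rw [one_pow] at this
    rw [this, mul_comm]
  refine ⟨Matrix.diagonal ![(y : F), ((y : F) ^ q)⁻¹, (y : F) ^ (q - 1)], ⟨!![0, 1, 0; 1, 0, 0; 0, 0, 1], ?_, ?_⟩, ?_, ?_, ?_⟩
  · rw [Matrix.isUnit_iff_isUnit_det, Matrix.det_fin_three]
    simp
  · have h0 : ∀ a b c : F, st q (Matrix.diagonal ![a, b, c]) = Matrix.diagonal ![a ^ q, b ^ q, c ^ q] := by
      intro a b c
      ext i j
      rw [st_apply]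
      fin_cases i <;> fin_cases j <;> simp [Matrix.diagonal, show q ≠ 0 by omega]
    rw [h0]
    have e1 : (y : F) ^ q * ((y : F) ^ q)⁻¹ = 1 := mul_inv_cancel₀ (pow_ne_zero _ hy0)
    have e2 : (((y : F) ^ q) ^ q)⁻¹ * (y : F) = 1 := by
      rw [← pow_mul, ← pow_two, hyq, inv_mul_cancel₀ hy0]
    have e3 : ((y : F) ^ (q - 1)) ^ q * (y : F) ^ (q - 1) = 1 := by
      rw [← pow_succ, ← pow_mul, hfac, hy1]
    ext i j
    fin_cases i <;> fin_cases j <;>
      simp [Matrix.mul_apply, Fin.sum_univ_three, Matrix.diagonal, e1, e2, e3]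
  · rw [Matrix.det_diagonal, Fin.prod_univ_three]
    change (y : F) * ((y : F) ^ q)⁻¹ * (y : F) ^ (q - 1) = 1
    have e1 : (y : F) * (y : F) ^ (q - 1) = (y : F) ^ q := by
      rw [← pow_succ', show q - 1 + 1 = q by omega]
    rw [mul_right_comm, e1, mul_inv_cancel₀ (pow_ne_zero _ hy0)]
  · have h0 : ∀ z : F, z ≠ 0 → z ^ (q ^ 2 - 1) = 1 := by
      intro z hz
      rw [← hF]
      exact FiniteField.pow_card_sub_one_eq_one z hz
    rw [diag_pow3, h0 _ hy0, h0 _ (inv_ne_zero (pow_ne_zero _ hy0)), h0 _ (pow_ne_zero _ hy0)]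
    ext i j
    fin_cases i <;> fin_cases j <;> rfl
  · intro k hk
    rw [diag_pow3] at hk
    have h1 := congrFun (congrFun hk 0) 0
    rw [← hordy]
    apply orderOf_dvd_of_pow_eq_one
    apply Units.ext
    simpa using h1

/-- the block of order `p (q + 1)` -/
theorem block_unip (hF : Fintype.card F = q ^ 2) (p : ℕ) [hp : Fact p.Prime] [CharP F p] :
    AdjPSU.HasBlock F q 3 (p * (q + 1)) := by
  classical
  have hq := Cfsg.Agent.ClassicalGeometry.GUBasic.two_le hF
  obtain ⟨A, hA, hdet, hA1, hA2⟩ := AdjPSU.hasBlock_char hF p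
  obtain ⟨y, hy⟩ := IsCyclic.exists_generator (α := Fˣ)
  have hordy : orderOf y = (q - 1) * (q + 1) := by
    have hfac : (q - 1) * (q + 1) = q ^ 2 - 1 := by
      have := Nat.sq_sub_sq q 1
      rw [one_pow] at this
      rw [this, mul_comm]
    rw [orderOf_eq_card_of_forall_mem_zpowers hy, Nat.card_units, Nat.card_eq_fintype_card, hF, hfac]
  obtain ⟨w, hw⟩ : ∃ w : Fˣ, orderOf w = q + 1 := by
    refine ⟨y ^ (q - 1), ?_⟩
    rw [orderOf_pow' y (by omega), hordy, Nat.gcd_mul_right_left, Nat.mul_div_cancel_left _ (by omega)]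
  have hw1 : (w : F) ^ (q + 1) = 1 := by
    rw [← Units.val_pow_eq_pow_val, ← hw, pow_orderOf_eq_one, Units.val_one]
  have hw0 : (w : F) ≠ 0 := w.ne_zero
  have hpq : p ∣ q := by
    have h1 : p ∣ Fintype.card F := dvd_card_of_charP
    rw [hF] at h1
    exact hp.out.dvd_of_dvd_pow h1
  have hco : Nat.Coprime (q + 1) p := by
    rw [Nat.coprime_comm, Nat.Prime.coprime_iff_not_dvd hp.out]
    intro h
    exact hp.out.one_lt.ne' (Nat.dvd_one.1 ((Nat.dvd_add_right hpq).1 h))
  let e : Fin 3 ≃ Fin 2 ⊕ Fin 1 := (finCongr (by norm_num : 3 = 2 + 1)).trans finSumFinEquiv.symm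
  let c : F := ((w : F) ^ 2)⁻¹
  have hB : Uni q (fromBlocks ((w : F) • A) 0 0 (c • (1 : Matrix (Fin 1) (Fin 1) F))) := by
    refine uni_fromBlocks (by omega) ?_ ?_
    · obtain ⟨x, hx, h1⟩ := hA
      refine ⟨x, hx, ?_⟩
      rw [st_smul, Matrix.smul_mul, Matrix.smul_mul, Matrix.mul_smul, smul_smul, h1, ← pow_succ, hw1, one_smul]
    · refine ⟨1, isUnit_one, ?_⟩
      rw [st_smul, st_one hF, Matrix.mul_one, Matrix.smul_mul, Matrix.one_mul, smul_smul, ← pow_succ]
      have h1 : c ^ (q + 1) = 1 := by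
        change (((w : F) ^ 2)⁻¹) ^ (q + 1) = 1
        rw [inv_pow, ← pow_mul, mul_comm, pow_mul, hw1, one_pow, inv_one]
      rw [h1, one_smul]
  have hs : ∀ k : ℕ, ((fromBlocks ((w : F) • A) 0 0 (c • (1 : Matrix (Fin 1) (Fin 1) F))).submatrix e e) ^ k =
      (fromBlocks (((w : F) • A) ^ k) 0 0 ((c • (1 : Matrix (Fin 1) (Fin 1) F)) ^ k)).submatrix e e := by
    intro k
    rw [← AdjPSU.fromBlocks_pow]
    induction k with
    | zero => rw [pow_zero, pow_zero, Matrix.submatrix_one_equiv]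
    | succ k ih => rw [pow_succ, ih, Matrix.submatrix_mul_equiv, ← pow_succ]
  refine ⟨(fromBlocks ((w : F) • A) 0 0 (c • (1 : Matrix (Fin 1) (Fin 1) F))).submatrix e e, uni_submatrix e hB, ?_, ?_, ?_⟩
  · rw [Matrix.det_submatrix_equiv_self, Matrix.det_fromBlocks_zero₂₁, Matrix.det_smul, Matrix.det_smul, hdet,
      Matrix.det_one, Fintype.card_fin, Fintype.card_fin, mul_one, mul_one, pow_one]
    exact mul_inv_cancel₀ (pow_ne_zero _ hw0)
  · rw [hs]
    have h1 : ((w : F) • A) ^ (p * (q + 1)) = 1 := by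
      rw [smul_pow, pow_mul A, hA1, one_pow, mul_comm p, pow_mul, hw1, one_pow, one_smul]
    have h2 : (c • (1 : Matrix (Fin 1) (Fin 1) F)) ^ (p * (q + 1)) = 1 := by
      have h3 : c ^ (q + 1) = 1 := by
        change (((w : F) ^ 2)⁻¹) ^ (q + 1) = 1
        rw [inv_pow, ← pow_mul, mul_comm, pow_mul, hw1, one_pow, inv_one]
      rw [smul_pow, one_pow, mul_comm p, pow_mul, h3, one_pow, one_smul]
    rw [h1, h2, fromBlocks_one, Matrix.submatrix_one_equiv]
  · intro k hk
    rw [hs] at hk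
    have h1 := congrArg (fun M : Matrix (Fin 3) (Fin 3) F => M.submatrix e.symm e.symm) hk
    simp only [Matrix.submatrix_submatrix, Equiv.self_comp_symm, Matrix.submatrix_id_id] at h1
    rw [Matrix.submatrix_one_equiv, ← fromBlocks_one, fromBlocks_inj] at h1
    have h2 : ((w : F) • A) ^ k = 1 := h1.1
    rw [smul_pow] at h2
    have h3 : (w : F) ^ (k * p) = 1 := by
      have h4 : ((w : F) ^ k • A ^ k) ^ p = 1 := by rw [h2, one_pow]
      rw [smul_pow, ← pow_mul, ← pow_mul, mul_comm k p, pow_mul A, hA1, one_pow, mul_comm p k] at h4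
      have h5 := congrFun (congrFun h4 0) 0
      simpa using h5
    have h4 : q + 1 ∣ k := by
      have h5 : q + 1 ∣ k * p := by
        rw [← hw]
        apply orderOf_dvd_of_pow_eq_one
        apply Units.ext
        rw [Units.val_pow_eq_pow_val, h3, Units.val_one]
      exact hco.dvd_of_dvd_mul_right h5
    have h5 : (w : F) ^ k = 1 := by
      obtain ⟨j, rfl⟩ := h4
      rw [pow_mul, hw1, one_pow]
    rw [h5, one_smul] at h2
    exact hco.symm.mul_dvd_of_dvd_of_dvd (hA2 k h2) h4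

/-- **`PSU_n(q)`, `n ≥ 3`, `q ≥ 5` odd.** -/
theorem eight_psu {p : ℕ} [hp : Fact p.Prime] [CharP F p] (hp2 : p ≠ 2) (hF : Fintype.card F = q ^ 2) (hn : 3 ≤ n)
    (h5 : 5 ≤ q) (hodd : Odd q) : Eight (Cfsg.PSU n F q) := by
  obtain ⟨K, _, _, f, hK⟩ := exists_K hF
  have hKp : CharP K p := by
    obtain ⟨p', hp'⟩ := CharP.exists K
    have h1 : CharP F p' := charP_of_injective_ringHom f.injective p'
    rwa [CharP.eq F h1 ‹CharP F p›] at hp'
  have h := fun m (hm : Has (SpecialLinearGroup (Fin 2) K) m) => has_psu_of_has hF hn hK f hm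
  by_cases h7 : 7 ≤ q
  · exact eight_of_seven hp2 (by rw [hK]; exact h7) (by rw [hK]; exact hodd) h
  · have h5' : q = 5 := by
      obtain ⟨r, hr⟩ := hodd
      omega
    subst h5'
    refine eight_of_five hK h (r := 7) ?_ (by decide)
    exact AdjPSU.exists_order_of_block hF hn (AdjPSU.hasBlock_odd hF (a := 3) (by decide) (by norm_num) (by norm_num))
      (by norm_num) hn (by norm_num) 7 dvd_rfl

/-- **`PSU_n(3)`, `n ≥ 3`.** -/
theorem eight_psu_three (hF : Fintype.card F = 3 ^ 2) (hn : 3 ≤ n) : Eight (Cfsg.PSU n F 3) := by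
  have : Fact (Nat.Prime 3) := ⟨Nat.prime_three⟩
  have : CharP F 3 := by
    obtain ⟨p, hp⟩ := CharP.exists F
    have hpp : p.Prime := CharP.char_is_prime F p
    have h1 : p ∣ 3 ^ 2 := by rw [← hF]; exact dvd_card_of_charP
    rwa [(Nat.prime_dvd_prime_iff_eq hpp Nat.prime_three).1 (hpp.dvd_of_dvd_pow h1)] at hp
  have key : ∀ d, AdjPSU.HasBlock F 3 3 d → Has (Cfsg.PSU n F 3) d := by
    intro d hd
    rcases Nat.lt_or_ge 3 n with h | h
    · exact AdjPSU.exists_order_of_block_lt hF hn hd h d dvd_rfl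
    · obtain rfl : n = 3 := by omega
      exact has_psu_full hF hn (by norm_num) hd
  have h8 : Has (Cfsg.PSU n F 3) 8 := key 8 (block_torus hF)
  have h12 : Has (Cfsg.PSU n F 3) 12 := key 12 (block_unip hF 3)
  have h7 : Has (Cfsg.PSU n F 3) 7 :=
    AdjPSU.exists_order_of_block hF hn (AdjPSU.hasBlock_odd hF (a := 3) (by decide) (by norm_num) (by norm_num))
      (by norm_num) hn (by norm_num) 7 dvd_rfl
  have hfin : Finite (Cfsg.PSU n F 3) := Quotient.finite _
  refine Eight.of_has {1, 2, 3, 4, 6, 12, 8, 7} ?_ (by decide)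
  intro m hm
  simp only [Finset.mem_insert, Finset.mem_singleton] at hm
  rcases hm with rfl | rfl | rfl | rfl | rfl | rfl | rfl | rfl
  · exact h12.dvd (by norm_num)
  · exact h12.dvd (by norm_num)
  · exact h12.dvd (by norm_num)
  · exact h12.dvd (by norm_num)
  · exact h12.dvd (by norm_num)
  · exact h12
  · exact h8
  · exact h7

end Cfsg.Agent.H193.K6
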