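import Cfsg.Agent.H193.K6.LinTwo
import Cfsg.Agent.H193.K6.Uni
import Cfsg.Agent.H193.K6.Sym
import Cfsg.Agent.H292.KB.AllBut
import Cfsg.Agent.H436.Names

/-!
# S4876: the linear, unitary and symplectic rows in own characteristic (helper193)

`own_psl2`, `own_psl`, `own_psu`, `own_psp` : the rows in the form of `tools/plans/S4876_tasks.lean`;
`krow_psl2`, `krow_psl`, `krow_psu`, `krow_psp` : the same for the concrete groups (any odd `p`).
-/

set_option autoImplicit false

open Cfsg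

namespace Cfsg.Agent.H193.K6

open Cfsg.Agent.H61.K6 Cfsg.Agent.H436 Cfsg.Agent.OrdDiv

universe u v

section concrete

variable {p : ℕ} [hp : Fact p.Prime] {F : Type} [Field F] [Fintype F] [CharP F p]

theorem odd_card (hp2 : p ≠ 2) : Odd (Fintype.card F) := by
  obtain ⟨n, -, hn⟩ := FiniteField.card F p
  rw [hn]
  exact (hp.out.odd_of_ne_two hp2).pow

theorem three_le_card (hp2 : p ≠ 2) : 3 ≤ Fintype.card F := by
  obtain ⟨r, hr⟩ := odd_card (F := F) hp2
  have := Fintype.one_lt_card (α := F)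
  omega

/-- **`PSL₂(q)`.** -/
theorem krow_psl2 (hp2 : p ≠ 2) {a : ℕ} (ha : 2 ≤ a) (hF : Fintype.card F = p ^ a) (h9 : p ^ a ≠ 9)
    [IsSimpleGroup (Matrix.ProjectiveSpecialLinearGroup (Fin 2) F)] :
    KRow.{u, 0} p (Matrix.ProjectiveSpecialLinearGroup (Fin 2) F) := by
  have h3 : 3 ≤ p := by
    have := hp.out.two_le
    omega
  have h4 : 4 ≤ Fintype.card F := by
    rw [hF]
    have : 3 ^ 2 ≤ p ^ a := (Nat.pow_le_pow_left h3 2).trans (Nat.pow_le_pow_right (by omega) ha)
    omega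
  exact krow_of_eightP (eightP_two p hp2 ha hF h9) fun M hM => H292.KB.all_but_one hp2
    (Or.inl ⟨F, inferInstance, inferInstance, inferInstance, 2, le_rfl, fun _ => h4, ⟨MulEquiv.refl _⟩⟩) M hM

/-- **`PSL_n(q)`, `n ≥ 3`.** -/
theorem krow_psl (hp2 : p ≠ 2) {n : ℕ} (hn : 3 ≤ n) [IsSimpleGroup (Matrix.ProjectiveSpecialLinearGroup (Fin n) F)] :
    KRow.{u, 0} p (Matrix.ProjectiveSpecialLinearGroup (Fin n) F) := by
  have hodd := odd_card (F := F) hp2
  have h8 : Eight (Matrix.ProjectiveSpecialLinearGroup (Fin n) F) := by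
    rcases Nat.lt_or_ge (Fintype.card F) 5 with h5 | h5
    · have h3 : Fintype.card F = 3 := by
        have := three_le_card (F := F) hp2
        obtain ⟨r, hr⟩ := hodd
        omega
      rcases Nat.lt_or_ge 3 n with h | h
      · exact eight_psl_three h h3
      · obtain rfl : n = 3 := by omega
        exact eight_psl_three_three h3
    · exact eight_psl hp2 hn h5 hodd
  exact krow_of_eight h8 fun M hM => H292.KB.all_but_one hp2
    (Or.inl ⟨F, inferInstance, inferInstance, inferInstance, n, by omega, fun h => by omega, ⟨MulEquiv.refl _⟩⟩) M hM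

/-- **`PSU_n(q)`, `n ≥ 3`.** -/
theorem krow_psu (hp2 : p ≠ 2) {n q : ℕ} (hn : 3 ≤ n) (hF : Fintype.card F = q ^ 2) [IsSimpleGroup (PSU n F q)] :
    KRow.{u, 0} p (PSU n F q) := by
  have hodd := odd_card (F := F) hp2
  have hq : Odd q := by
    rw [hF] at hodd
    exact Nat.Odd.of_mul_left (by rw [pow_two] at hodd; exact hodd)
  have hq1 : 1 < q := by
    have := Fintype.one_lt_card (α := F)
    rw [hF] at this
    by_contra h
    have : q = 0 ∨ q = 1 := by omega
    rcases this with rfl | rfl <;> simp at *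
  have h8 : Eight (PSU n F q) := by
    rcases Nat.lt_or_ge q 5 with h5 | h5
    · have h3 : q = 3 := by
        obtain ⟨r, hr⟩ := hq
        omega
      subst h3
      exact eight_psu_three hF hn
    · exact eight_psu hp2 hF hn h5 hq
  have hfin : Finite (PSU n F q) := Quotient.finite _
  exact krow_of_eight h8 fun M hM => H292.KB.all_but_one hp2
    (Or.inr (Or.inr (Or.inl ⟨F, inferInstance, inferInstance, inferInstance, n, q, hF, hn, fun h => by
      have := h.2
      rw [this] at hq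
      exact absurd hq (by decide), ⟨MulEquiv.refl _⟩⟩))) M hM

/-- **`PSp_{2m}(q)`, `m ≥ 2`.** -/
theorem krow_psp (hp2 : p ≠ 2) {m : ℕ} (hm : 2 ≤ m) [IsSimpleGroup (PSp m F)] : KRow.{u, 0} p (PSp m F) := by
  have hodd := odd_card (F := F) hp2
  have hfin : Finite (PSp m F) := Quotient.finite _
  exact krow_of_eight (eight_psp hp2 hm hodd) fun M hM => H292.KB.all_but_one hp2
    (Or.inr (Or.inl ⟨F, inferInstance, inferInstance, inferInstance, m, hm, fun _ => three_le_card hp2,
      ⟨MulEquiv.refl _⟩⟩)) M hM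

end concrete

/-! ### the rows -/

section rows

variable {S : Type v} [Group S] [Finite S] [hS : IsSimpleGroup S] {p : ℕ} [hp : Fact p.Prime] {n m q : ℕ}

theorem charP_of_dvd {F : Type} [Field F] [Fintype F] (hd : p ∣ Fintype.card F) : CharP F p := by
  obtain ⟨r, hr⟩ := CharP.exists F
  obtain ⟨k, hrp, hk⟩ := FiniteField.card F r
  rw [hk] at hd
  have h1 : p = r := (Nat.prime_dvd_prime_iff_eq hp.out hrp).1 (hp.out.dvd_of_dvd_pow hd)
  rwa [h1]

/-- `PSL₂(q)`, own characteristic, `p² ∣ |S|`, `27 ∣ |S|` if `p = 3` -/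
theorem own_psl2 (hp2 : p ≠ 2) (h2 : p ^ 2 ∣ Nat.card S) (h27 : p = 3 → 27 ∣ Nat.card S)
    (h : IsNamed (.psl 2 q) S) (hq : p ∣ q) : KRow.{u, v} p S := by
  obtain ⟨F, i1, i2, hF, ⟨e⟩⟩ := h.real
  have hcp : CharP F p := charP_of_dvd (by rw [hF]; exact hq)
  obtain ⟨k, -, hk⟩ := FiniteField.card F p
  have hs : IsSimpleGroup (Matrix.ProjectiveSpecialLinearGroup (Fin 2) F) := e.symm.isSimpleGroup
  have hcard : Nat.card (Matrix.ProjectiveSpecialLinearGroup (Fin 2) F) ∣
      (Fintype.card F ^ 2 - 1) * (Fintype.card F * (Fintype.card F - 1)) := by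
    have h1 := S0243.result (F := F) rfl 2 le_rfl
    rw [Fin.prod_univ_two] at h1
    have h3 : Fintype.card F ^ 2 - Fintype.card F = Fintype.card F * (Fintype.card F - 1) := by
      rw [Nat.mul_sub, mul_one, pow_two]
    refine ⟨Nat.gcd 2 (Fintype.card F - 1) * (Fintype.card F - 1), ?_⟩
    change _ = (Fintype.card F ^ 2 - Fintype.card F ^ 0) * (Fintype.card F ^ 2 - Fintype.card F ^ 1) at h1
    rw [pow_zero, pow_one, h3] at h1
    rw [← h1]
    ring
  have hSc : Nat.card S = Nat.card (Matrix.ProjectiveSpecialLinearGroup (Fin 2) F) := Nat.card_congr e.toEquiv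
  -- the `p`-part
  have hco1 : ¬ p ∣ Fintype.card F ^ 2 - 1 := by
    intro hd
    have h1 : p ∣ Fintype.card F ^ 2 := dvd_pow (by rw [hF]; exact hq) two_ne_zero
    have h3 := Nat.dvd_sub h1 hd
    rw [Nat.sub_sub_self (Nat.one_le_pow _ _ Fintype.card_pos)] at h3
    exact hp.out.one_lt.ne' (Nat.dvd_one.1 h3)
  have hco2 : ¬ p ∣ Fintype.card F - 1 := by
    intro hd
    have h1 : p ∣ Fintype.card F := by rw [hF]; exact hq
    have h3 := Nat.dvd_sub h1 hd
    rw [Nat.sub_sub_self Fintype.card_pos] at h3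
    exact hp.out.one_lt.ne' (Nat.dvd_one.1 h3)
  have key : ∀ j, p ^ j ∣ Nat.card S → p ^ j ∣ Fintype.card F := by
    intro j hj
    rw [hSc] at hj
    have h1 := hj.trans hcard
    have h3 := (Nat.Coprime.pow_left j ((Nat.Prime.coprime_iff_not_dvd hp.out).2 hco1)).dvd_of_dvd_mul_left h1
    exact (Nat.Coprime.pow_left j ((Nat.Prime.coprime_iff_not_dvd hp.out).2 hco2)).dvd_of_dvd_mul_right h3
  have ha : 2 ≤ (k : ℕ) := by
    have h1 := key 2 h2
    rw [hk] at h1
    exact (Nat.pow_dvd_pow_iff_le_right hp.out.one_lt).1 h1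
  have h9 : p ^ (k : ℕ) ≠ 9 := by
    intro h9
    have h3 : p = 3 := by
      have h4 : p ∣ 3 ^ 2 := by
        have : p ∣ p ^ (k : ℕ) := dvd_pow_self p (by omega)
        rw [h9] at this
        exact this
      exact (Nat.prime_dvd_prime_iff_eq hp.out Nat.prime_three).1 (hp.out.dvd_of_dvd_pow h4)
    have h1 := key 3 (by rw [h3]; exact h27 h3)
    rw [hk, h9, h3] at h1
    norm_num at h1
  exact (krow_psl2 hp2 ha hk h9).congr e.symm

theorem own_psl (hp2 : p ≠ 2) (hn : 3 ≤ n) (h : IsNamed (.psl n q) S) (hq : p ∣ q) : KRow.{u, v} p S := by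
  obtain ⟨F, i1, i2, hF, ⟨e⟩⟩ := h.real
  have hcp : CharP F p := charP_of_dvd (by rw [hF]; exact hq)
  have hs : IsSimpleGroup (Matrix.ProjectiveSpecialLinearGroup (Fin n) F) := e.symm.isSimpleGroup
  exact (krow_psl hp2 hn).congr e.symm

theorem own_psu (hp2 : p ≠ 2) (h : IsNamed (.psu n q) S) (hq : p ∣ q) : KRow.{u, v} p S := by
  obtain ⟨F, i1, i2, hF, ⟨e⟩⟩ := h.real
  have hcp : CharP F p := charP_of_dvd (by rw [hF]; exact hq.trans (dvd_pow_self q two_ne_zero))
  have hs : IsSimpleGroup (PSU n F q) := e.symm.isSimpleGroup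
  exact (krow_psu hp2 h.cond.1 hF).congr e.symm

theorem own_psp (hp2 : p ≠ 2) (h : IsNamed (.psp m q) S) (hq : p ∣ q) : KRow.{u, v} p S := by
  obtain ⟨F, i1, i2, hF, ⟨e⟩⟩ := h.real
  have hcp : CharP F p := charP_of_dvd (by rw [hF]; exact hq)
  have hs : IsSimpleGroup (PSp m F) := e.symm.isSimpleGroup
  exact (krow_psp hp2 h.cond.1).congr e.symm

end rows

end Cfsg.Agent.H193.K6
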