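import Mathlib
import Cfsg.Agent.GH.Cov.SpData
import Cfsg.Agent.Lib.AutSL2Out
import Cfsg.Agent.H183.OutSp4

/-!
# `Out(PSp₄(q))` is abelian (helper193, for S4876)
-/

set_option autoImplicit false

namespace Cfsg.Agent.H193.K6

open Cfsg
open Cfsg.Agent.ClassicalGeometry.SympAutSemi
open Cfsg.Agent.ClassicalGeometry.SympAutExists
open Cfsg.Agent.GH.Cov.SpSemi
open Cfsg.Agent.GH.Cov.SpPsi
open Cfsg.Agent.GH.Cov.SpData

universe u

section odd

variable {F : Type u} [Field F]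

theorem isSquare_equiv (σ : F ≃+* F) {a : F} : IsSquare (σ a) ↔ IsSquare a := by
  constructor
  · rintro ⟨r, hr⟩
    refine ⟨σ.symm r, ?_⟩
    rw [← map_mul, ← hr, σ.symm_apply_apply]
  · rintro ⟨r, rfl⟩
    exact ⟨σ r, map_mul σ r r⟩

/-- `a / b` is a square if `a` and `b` are both squares or both nonsquares -/
theorem isSquare_mul_inv [Finite F] (h2 : (2 : F) ≠ 0) {a b : F} (h : IsSquare a ↔ IsSquare b) :
    IsSquare (a * b⁻¹) := by
  by_cases ha : IsSquare a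
  · exact ha.mul (h.1 ha).inv
  · have hb : ¬ IsSquare b := fun hb => ha (h.2 hb)
    refine isSquare_mul_of_not h2 ha fun hb' => hb ?_
    have := hb'.inv
    rwa [inv_inv] at this

theorem out_comm_odd [Fintype F] (h2 : (2 : F) ≠ 0) (a b : MulAut (PSp 2 F)) :
    ∃ x : PSp 2 F, a * b * a⁻¹ * b⁻¹ = MulAut.conj x := by
  obtain ⟨g, rfl⟩ := exists_Psi h2 a
  obtain ⟨k, rfl⟩ := exists_Psi h2 b
  obtain ⟨σ, μ, hμ, hs⟩ := g.2
  obtain ⟨τ, ν, hν, ht⟩ := k.2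
  have hcomm : ∀ c, σ (τ c) = τ (σ c) := fun c =>
    congrArg (fun e : F ≃+* F => e c) (Cfsg.Agent.Lib.AutSL2Out.ringEquiv_comm σ τ)
  have h1 := ((hs.mul ht).mul (hs.inv hμ)).mul (ht.inv hν)
  -- the multiplier is a square
  have hval : ∀ c, (((τ.symm).trans ((σ.symm).trans (τ.trans σ))) : F ≃+* F) c = c := by
    intro c
    change σ (τ (σ.symm (τ.symm c))) = c
    rw [hcomm, RingEquiv.apply_symm_apply, RingEquiv.apply_symm_apply]
  have hm : μ * σ ν * (τ.trans σ) (σ.symm μ⁻¹) * (σ.symm.trans (τ.trans σ)) (τ.symm ν⁻¹) =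
      (μ * (τ μ)⁻¹) * (σ ν * ν⁻¹) := by
    have e1 : (τ.trans σ) (σ.symm μ⁻¹) = (τ μ)⁻¹ := by
      change σ (τ (σ.symm μ⁻¹)) = _
      rw [hcomm, RingEquiv.apply_symm_apply, map_inv₀]
    have e2 : (σ.symm.trans (τ.trans σ)) (τ.symm ν⁻¹) = ν⁻¹ := hval _
    rw [e1, e2]
    ring
  have hsq : IsSquare ((μ * (τ μ)⁻¹) * (σ ν * ν⁻¹)) :=
    (isSquare_mul_inv h2 (isSquare_equiv τ).symm).mul (isSquare_mul_inv h2 (isSquare_equiv σ))
  have hne : (μ * (τ μ)⁻¹) * (σ ν * ν⁻¹) ≠ 0 := by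
    have h3 : τ μ ≠ 0 := by simpa using hμ
    have h4 : σ ν ≠ 0 := by simpa using hν
    exact mul_ne_zero (mul_ne_zero hμ (inv_ne_zero h3)) (mul_ne_zero h4 (inv_ne_zero hν))
  rw [hm] at h1
  obtain ⟨m, hm2⟩ := hsq
  rw [hm2] at h1 hne
  have hm0 : m ≠ 0 := left_ne_zero_of_mul hne
  have hmi : m⁻¹ ≠ 0 := inv_ne_zero hm0
  have h5 := (isSemi_scal hmi).mul h1
  have e : (m⁻¹ * m⁻¹ * (RingEquiv.refl F) (m * m)) = 1 := by
    change m⁻¹ * m⁻¹ * (m * m) = 1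
    field_simp
  rw [e] at h5
  obtain ⟨x, hx⟩ := inn_of_linear (g := scal hmi * (g * k * g⁻¹ * k⁻¹)) h5 (fun c => hval c)
  refine ⟨x, ?_⟩
  rw [← hx, map_mul, Psi_scal, one_mul, map_mul, map_mul, map_mul, map_inv, map_inv]

end odd

theorem out_comm_of_cyclic {X : Type u} [Group X] (h : IsCyclic (Cfsg.Out X)) (a b : MulAut X) :
    ∃ x : X, a * b * a⁻¹ * b⁻¹ = MulAut.conj x := by
  obtain ⟨c, hc⟩ := h.exists_generator
  obtain ⟨i, hi⟩ := hc (QuotientGroup.mk a)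
  obtain ⟨j, hj⟩ := hc (QuotientGroup.mk b)
  have h1 : ((a * b * a⁻¹ * b⁻¹ : MulAut X) : Cfsg.Out X) = 1 := by
    rw [QuotientGroup.mk_mul, QuotientGroup.mk_mul, QuotientGroup.mk_mul, QuotientGroup.mk_inv,
      QuotientGroup.mk_inv, ← hi, ← hj]
    simp only
    rw [← zpow_add, ← zpow_neg, ← zpow_add, ← zpow_neg, ← zpow_add]
    rw [show i + j + -i + -j = 0 by ring, zpow_zero]
  obtain ⟨x, hx⟩ := (QuotientGroup.eq_one_iff _).1 h1
  exact ⟨x, hx.symm⟩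

/-- **`Out(PSp₄(q))` is abelian.** -/
theorem out_comm_psp_four {F : Type u} [Field F] [Fintype F] (a b : MulAut (PSp 2 F)) :
    ∃ x : PSp 2 F, a * b * a⁻¹ * b⁻¹ = MulAut.conj x := by
  by_cases h2 : (2 : F) = 0
  · have h3 : CharP F 2 := by
      have := CharTwo.of_one_ne_zero_of_two_eq_zero (R := F) one_ne_zero h2
      exact this
    obtain ⟨n, -, hn⟩ := FiniteField.card F 2
    exact out_comm_of_cyclic (H183.OutSp4.out_psp4 n.pos hn).1 a b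
  · exact out_comm_odd h2 a b

end Cfsg.Agent.H193.K6
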