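import Cfsg.Agent.H193.K6.Basic
import Cfsg.Agent.H710.LtwoSL2

/-!
# Element orders of `SL₂(q)`, `q` odd (helper193, S4876)

* `has_sl2_sub`, `has_sl2_add`, `has_sl2_char`;
* `eight_of_seven` : a group with elements of all orders of elements of `SL₂(q)`, `q ≥ 7` odd, has eight element
  orders;  `eight_of_five` : `q = 5` and one more order.
-/

set_option autoImplicit false

namespace Cfsg.Agent.H193.K6

open Matrix

section

variable {F : Type*} [Field F] [Fintype F]

theorem has_sl2_sub {n : ℕ} (hn : n ∣ Fintype.card F - 1) : Has (SpecialLinearGroup (Fin 2) F) n :=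
  Has.dvd (H710.SLTwo.exists_order_sub_one F) hn

theorem has_sl2_add {n : ℕ} (hn : n ∣ Fintype.card F + 1) : Has (SpecialLinearGroup (Fin 2) F) n :=
  Has.dvd (H710.SLTwo.exists_order_add_one F) hn

/-- `- [1 1; 0 1]` has order `2 p` -/
theorem has_sl2_char {p : ℕ} [hp : Fact p.Prime] [CharP F p] (hp2 : p ≠ 2) :
    Has (SpecialLinearGroup (Fin 2) F) (2 * p) := by
  have hdet : (!![1, 1; 0, 1] : Matrix (Fin 2) (Fin 2) F).det = 1 := by
    rw [Matrix.det_fin_two_of]; ring
  let u : SpecialLinearGroup (Fin 2) F := ⟨!![1, 1; 0, 1], hdet⟩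
  have hpow : ∀ k : ℕ, ((u ^ k : SpecialLinearGroup (Fin 2) F) : Matrix (Fin 2) (Fin 2) F) = !![1, (k : F); 0, 1] := by
    intro k
    induction k with
    | zero => simp [Matrix.one_fin_two]
    | succ k ih =>
      rw [pow_succ]
      change ((u ^ k : SpecialLinearGroup (Fin 2) F) : Matrix (Fin 2) (Fin 2) F) * !![1, 1; 0, 1] = _
      rw [ih, Matrix.mul_fin_two]
      simp [add_comm]
  have hu : orderOf u = p := by
    refine orderOf_eq_prime ?_ ?_
    · apply Subtype.ext
      rw [hpow, CharP.cast_eq_zero]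
      change _ = (1 : Matrix (Fin 2) (Fin 2) F)
      rw [Matrix.one_fin_two]
    · intro h
      have h1 := congrArg (fun g : SpecialLinearGroup (Fin 2) F => (g : Matrix (Fin 2) (Fin 2) F) 0 1) h
      simp [u] at h1
  have h2F : (2 : F) ≠ 0 := by
    intro h
    have h1 : ((2 : ℕ) : F) = 0 := by exact_mod_cast h
    rw [CharP.cast_eq_zero_iff F p] at h1
    exact hp2 ((Nat.prime_dvd_prime_iff_eq hp.out Nat.prime_two).1 h1)
  have hneg : orderOf (-1 : SpecialLinearGroup (Fin 2) F) = 2 := by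
    refine orderOf_eq_prime (by rw [neg_one_sq]) ?_
    intro h
    have h1 := congrArg (fun g : SpecialLinearGroup (Fin 2) F => (g : Matrix (Fin 2) (Fin 2) F) 0 0) h
    have h2 : (-1 : F) = 1 := by simpa using h1
    apply h2F
    linear_combination (-1 : F) * h2
  refine ⟨(-1) * u, ?_⟩
  have hc : Commute (-1 : SpecialLinearGroup (Fin 2) F) u := (Commute.one_left u).neg_left
  rw [hc.orderOf_mul_eq_mul_orderOf_of_coprime, hneg, hu]
  rw [hneg, hu]
  exact (Nat.coprime_primes Nat.prime_two hp.out).2 (Ne.symm hp2)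

theorem dvd_card_of_charP {p : ℕ} [CharP F p] : p ∣ Fintype.card F := by
  rw [← CharP.cast_eq_zero_iff F p, Nat.cast_card_eq_zero]

end

theorem card_eight {a b c d e f g h : ℕ} (H : [a, b, c, d, e, f, g, h].Nodup) :
    ({a, b, c, d, e, f, g, h} : Finset ℕ).card = 8 := by
  have := List.toFinset_card_of_nodup H
  simpa using this

/-- the arithmetic -/
theorem nodup_seven {r p : ℕ} (hr : 3 ≤ r) (hp : p.Prime) (hp2 : p ≠ 2) (hd : p ∣ 2 * r + 1) :
    [1, 2, r, r + 1, 2 * r, 2 * r + 2, p, 2 * p].Nodup := by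
  have h1 : ∀ m, p ∣ m → (m ∣ 2 * r ∨ m ∣ 2 * r + 2) → False := by
    rintro m hm (h | h)
    · have h2 := (Nat.dvd_add_right (hm.trans h)).1 hd
      exact hp.one_lt.ne' (Nat.dvd_one.1 h2)
    · have h2 : p ∣ 2 * r + 1 + 1 := hm.trans h
      have h3 := (Nat.dvd_add_right hd).1 h2
      exact hp.one_lt.ne' (Nat.dvd_one.1 h3)
  have hp3 : 3 ≤ p := by
    have := hp.two_le
    omega
  have n1 : r ≠ p := fun h => h1 r (by rw [h]) (Or.inl (dvd_mul_left _ _))
  have n2 : r ≠ 2 * p := fun h => h1 r (by rw [h]; exact dvd_mul_left _ _) (Or.inl (dvd_mul_left _ _))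
  have n3 : r + 1 ≠ p := fun h => h1 (r + 1) (by rw [h]) (Or.inr ⟨2, by ring⟩)
  have n4 : r + 1 ≠ 2 * p := fun h => h1 (r + 1) (by rw [h]; exact dvd_mul_left _ _) (Or.inr ⟨2, by ring⟩)
  have n5 : 2 * r ≠ p := fun h => h1 (2 * r) (by rw [h]) (Or.inl dvd_rfl)
  have n7 : 2 * r + 2 ≠ p := fun h => h1 (2 * r + 2) (by rw [h]) (Or.inr dvd_rfl)
  simp only [List.nodup_cons, List.mem_cons, List.not_mem_nil, or_false, not_or, List.nodup_nil, and_true,
    not_false_eq_true]
  refine ⟨⟨?_, ?_, ?_, ?_, ?_, ?_, ?_⟩, ⟨?_, ?_, ?_, ?_, ?_, ?_⟩, ⟨?_, ?_, ?_, ?_, ?_⟩, ⟨?_, ?_, ?_, ?_⟩, ⟨?_, ?_, ?_⟩,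
    ⟨?_, ?_⟩, ?_⟩ <;> omega

section

variable {F : Type*} [Field F] [Fintype F] {X : Type*} [Group X]

/-- **`q ≥ 7` odd.** -/
theorem eight_of_seven {p : ℕ} [hp : Fact p.Prime] [CharP F p] (hp2 : p ≠ 2) (h7 : 7 ≤ Fintype.card F)
    (hodd : Odd (Fintype.card F)) (h : ∀ n, Has (SpecialLinearGroup (Fin 2) F) n → Has X n) : Eight X := by
  obtain ⟨r, hr⟩ := hodd
  have hd : p ∣ 2 * r + 1 := by rw [← hr]; exact dvd_card_of_charP
  have hc := card_eight (nodup_seven (by omega) hp.out hp2 hd)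
  refine Eight.of_has _ ?_ hc.ge
  have s : ∀ n, n ∣ 2 * r → Has X n := fun n hn => h n (has_sl2_sub (by rw [hr]; exact hn))
  have a : ∀ n, n ∣ 2 * r + 2 → Has X n := fun n hn => h n (has_sl2_add (by rw [hr]; exact hn))
  intro n hn
  simp only [Finset.mem_insert, Finset.mem_singleton] at hn
  rcases hn with rfl | rfl | rfl | rfl | rfl | rfl | rfl | rfl
  · exact s _ (one_dvd _)
  · exact s _ (dvd_mul_right _ _)
  · exact s _ (dvd_mul_left _ _)
  · exact a _ ⟨2, by ring⟩
  · exact s _ dvd_rfl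
  · exact a _ dvd_rfl
  · exact h _ (Has.dvd (has_sl2_char hp2) (dvd_mul_left _ _))
  · exact h _ (has_sl2_char hp2)

/-- **`q = 5` and one more order.** -/
theorem eight_of_five (h5 : Fintype.card F = 5) (h : ∀ n, Has (SpecialLinearGroup (Fin 2) F) n → Has X n) {r : ℕ}
    (hr : Has X r) (hr' : r ∉ ({1, 2, 3, 4, 5, 6, 10} : Finset ℕ)) : Eight X := by
  have : Fact (Nat.Prime 5) := ⟨Nat.prime_five⟩
  have hcp : CharP F 5 := by
    obtain ⟨p, hp⟩ := CharP.exists F
    have hpp : p.Prime := CharP.char_is_prime F p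
    have h1 : p ∣ 5 := by rw [← h5]; exact dvd_card_of_charP
    rwa [(Nat.prime_dvd_prime_iff_eq hpp Nat.prime_five).1 h1] at hp
  have s : ∀ n, n ∣ 4 → Has X n := fun n hn => h n (has_sl2_sub (by rw [h5]; exact hn))
  have a : ∀ n, n ∣ 6 → Has X n := fun n hn => h n (has_sl2_add (by rw [h5]; exact hn))
  refine Eight.of_has (insert r {1, 2, 3, 4, 5, 6, 10}) ?_ ?_
  · intro n hn
    simp only [Finset.mem_insert, Finset.mem_singleton] at hn
    rcases hn with rfl | rfl | rfl | rfl | rfl | rfl | rfl | rfl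
    · exact hr
    · exact s _ (by norm_num)
    · exact s _ (by norm_num)
    · exact a _ (by norm_num)
    · exact s _ (by norm_num)
    · exact h _ (Has.dvd (has_sl2_char (p := 5) (by norm_num)) (by norm_num))
    · exact a _ (by norm_num)
    · exact h _ (has_sl2_char (p := 5) (by norm_num))
  · rw [Finset.card_insert_of_notMem hr']
    rfl

/-- the orders of `SL₂(3)` -/
theorem has_of_three (h3 : Fintype.card F = 3) (h : ∀ n, Has (SpecialLinearGroup (Fin 2) F) n → Has X n) {n : ℕ}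
    (hn : n ∈ ({1, 2, 3, 4, 6} : Finset ℕ)) : Has X n := by
  have : Fact (Nat.Prime 3) := ⟨Nat.prime_three⟩
  have hcp : CharP F 3 := by
    obtain ⟨p, hp⟩ := CharP.exists F
    have hpp : p.Prime := CharP.char_is_prime F p
    have h1 : p ∣ 3 := by rw [← h3]; exact dvd_card_of_charP
    rwa [(Nat.prime_dvd_prime_iff_eq hpp Nat.prime_three).1 h1] at hp
  have a : ∀ n, n ∣ 4 → Has X n := fun n hn => h n (has_sl2_add (by rw [h3]; exact hn))
  simp only [Finset.mem_insert, Finset.mem_singleton] at hn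
  rcases hn with rfl | rfl | rfl | rfl | rfl
  · exact a _ (by norm_num)
  · exact a _ (by norm_num)
  · exact h _ (Has.dvd (has_sl2_char (p := 3) (by norm_num)) (by norm_num))
  · exact a _ (by norm_num)
  · exact h _ (has_sl2_char (p := 3) (by norm_num))

end

end Cfsg.Agent.H193.K6
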