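import Cfsg.Agent.H193.K6.Ab
import Cfsg.Agent.H193.K6.PspOut
import Cfsg.Agent.H193.K6.SLTwo
import Cfsg.Agent.H982.TWModel
import Cfsg.Agent.ClassicalGeometry.SympInvolutions

/-!
# S4876, row `PSp₄(q)`, `p ∤ q`, `p ∣ q² - 1`: eleven characters (helper193)
-/

set_option autoImplicit false

namespace Cfsg.Agent.H193.K6

open Matrix Cfsg Cfsg.Agent.H61.K6

universe u v

section maps

variable {F : Type v} [Field F]

local notation "M₂" => Matrix (Fin 2) (Fin 2) F
local notation "SL₂" => SpecialLinearGroup (Fin 2) F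
local notation "Sp₄" => Matrix.symplecticGroup (Fin 2) F

theorem blocks_mem {A B C D : M₂} (h1 : B * Aᵀ = A * Bᵀ) (h2 : D * Cᵀ = C * Dᵀ) (h3 : A * Dᵀ - B * Cᵀ = 1) :
    fromBlocks A B C D ∈ Matrix.symplecticGroup (Fin 2) F := by
  rw [SymplecticGroup.mem_iff, Matrix.J, fromBlocks_transpose, fromBlocks_multiply, fromBlocks_multiply]
  have h4 : D * Aᵀ - C * Bᵀ = 1 := by
    have := congrArg Matrix.transpose h3
    rwa [transpose_sub, transpose_mul, transpose_mul, transpose_transpose, transpose_transpose, transpose_one] at this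
  congr 1
  · simp only [mul_zero, mul_one, zero_add, mul_neg, add_zero, neg_mul]
    rw [h1, add_neg_cancel]
  · simp only [mul_zero, mul_one, zero_add, mul_neg, add_zero, neg_mul]
    rw [← h3]
    abel
  · simp only [mul_zero, mul_one, zero_add, mul_neg, add_zero, neg_mul]
    rw [← h4]
    abel
  · simp only [mul_zero, mul_one, zero_add, mul_neg, add_zero, neg_mul]
    rw [h2, add_neg_cancel]

/-! ### block diagonal elements -/

/-- `g` on the first hyperbolic plane, `h` on the second -/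
def bl (g h : M₂) : Matrix (Fin 2 ⊕ Fin 2) (Fin 2 ⊕ Fin 2) F :=
  fromBlocks (diagonal ![g 0 0, h 0 0]) (diagonal ![g 0 1, h 0 1]) (diagonal ![g 1 0, h 1 0])
    (diagonal ![g 1 1, h 1 1])

theorem bl_mul (g h g' h' : M₂) : bl g h * bl g' h' = bl (g * g') (h * h') := by
  unfold bl
  rw [fromBlocks_multiply]
  simp only [diagonal_mul_diagonal, diagonal_add, Matrix.mul_apply, Fin.sum_univ_two]
  congr 1 <;> congr 1 <;> ext i <;> fin_cases i <;> rfl

theorem bl_one : bl (1 : M₂) 1 = 1 := by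
  unfold bl
  rw [← fromBlocks_one]
  congr 1 <;> ext i j <;> fin_cases i <;> fin_cases j <;> simp

theorem bl_add (g h g' h' : M₂) : bl g h + bl g' h' = bl (g + g') (h + h') := by
  unfold bl
  rw [fromBlocks_add]
  simp only [diagonal_add, Matrix.add_apply]
  congr 1 <;> congr 1 <;> ext i <;> fin_cases i <;> rfl

theorem bl_smul (t : F) (g h : M₂) : t • bl g h = bl (t • g) (t • h) := by
  unfold bl
  rw [fromBlocks_smul]
  congr 1 <;> ext i j <;> fin_cases i <;> fin_cases j <;> simp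

theorem bl_inj {g h g' h' : M₂} (e : bl g h = bl g' h') : g = g' ∧ h = h' := by
  obtain ⟨e1, e2, e3, e4⟩ := fromBlocks_inj.1 e
  constructor
  · ext i j
    fin_cases i <;> fin_cases j
    · simpa using congrFun (congrFun e1 0) 0
    · simpa using congrFun (congrFun e2 0) 0
    · simpa using congrFun (congrFun e3 0) 0
    · simpa using congrFun (congrFun e4 0) 0
  · ext i j
    fin_cases i <;> fin_cases j
    · simpa using congrFun (congrFun e1 1) 1
    · simpa using congrFun (congrFun e2 1) 1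
    · simpa using congrFun (congrFun e3 1) 1
    · simpa using congrFun (congrFun e4 1) 1

theorem bl_mem {g h : M₂} (hg : g.det = 1) (hh : h.det = 1) : bl g h ∈ Matrix.symplecticGroup (Fin 2) F := by
  rw [det_fin_two] at hg hh
  refine blocks_mem ?_ ?_ ?_
  · rw [diagonal_transpose, diagonal_transpose, diagonal_mul_diagonal, diagonal_mul_diagonal]
    congr 1
    funext i
    exact mul_comm _ _
  · rw [diagonal_transpose, diagonal_transpose, diagonal_mul_diagonal, diagonal_mul_diagonal]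
    congr 1
    funext i
    exact mul_comm _ _
  · rw [diagonal_transpose, diagonal_transpose, diagonal_mul_diagonal, diagonal_mul_diagonal, diagonal_sub,
      ← diagonal_one]
    congr 1
    funext i
    fin_cases i
    · exact hg
    · exact hh

/-- `SL₂ × SL₂ ≤ Sp₄` -/
def blH : SL₂ × SL₂ →* Sp₄ where
  toFun x := ⟨bl x.1.1 x.2.1, bl_mem x.1.2 x.2.2⟩
  map_one' := Subtype.ext bl_one
  map_mul' x y := Subtype.ext (bl_mul _ _ _ _).symm

theorem blH_injective : Function.Injective (blH (F := F)) := by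
  intro x y h
  obtain ⟨h1, h2⟩ := bl_inj (congrArg Subtype.val h)
  exact Prod.ext (Subtype.ext h1) (Subtype.ext h2)

/-! ### the Levi subgroup -/

/-- `SL₂` on two totally isotropic planes -/
def dgH : SL₂ →* Sp₄ where
  toFun g := ⟨fromBlocks g.1 0 0 (g⁻¹).1ᵀ, by
    refine blocks_mem (by simp) (by simp) ?_
    rw [transpose_transpose, transpose_zero, mul_zero, sub_zero]
    have : g.1 * (g⁻¹).1 = (g * g⁻¹).1 := rfl
    rw [this, mul_inv_cancel]
    rfl⟩
  map_one' := by
    apply Subtype.ext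
    change fromBlocks (1 : M₂) 0 0 ((1 : SL₂)⁻¹).1ᵀ = 1
    rw [inv_one]
    change fromBlocks (1 : M₂) 0 0 (1 : M₂)ᵀ = 1
    rw [transpose_one, fromBlocks_one]
  map_mul' g h := by
    apply Subtype.ext
    change fromBlocks (g.1 * h.1) 0 0 (((g * h)⁻¹).1)ᵀ = fromBlocks g.1 0 0 (g⁻¹).1ᵀ * fromBlocks h.1 0 0 (h⁻¹).1ᵀ
    rw [fromBlocks_multiply, _root_.mul_inv_rev]
    change fromBlocks (g.1 * h.1) 0 0 ((h⁻¹).1 * (g⁻¹).1)ᵀ = _
    rw [transpose_mul]
    simp

theorem dgH_injective : Function.Injective (dgH (F := F)) := by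
  intro x y h
  exact Subtype.ext (fromBlocks_inj.1 (congrArg Subtype.val h)).1

/-! ### the tensor embedding -/

/-- `g ⊗ 1` for the symmetric form `S` -/
def ps (S S' : M₂) (g : M₂) : Matrix (Fin 2 ⊕ Fin 2) (Fin 2 ⊕ Fin 2) F :=
  fromBlocks (g 0 0 • 1) (g 0 1 • S) (g 1 0 • S') (g 1 1 • 1)

theorem ps_mul {S S' : M₂} (h1 : S * S' = 1) (h2 : S' * S = 1) (g h : M₂) :
    ps S S' g * ps S S' h = ps S S' (g * h) := by
  unfold ps
  rw [fromBlocks_multiply]
  simp only [smul_mul_smul_comm, mul_one, one_mul, h1, h2, Matrix.mul_apply, Fin.sum_univ_two, add_smul]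

/-- `SL₂ ≤ Sp₄`, `g ↦ g ⊗ 1` -/
def psH {S S' : M₂} (h1 : S * S' = 1) (h2 : S' * S = 1) (hS : Sᵀ = S) : SL₂ →* Sp₄ where
  toFun g := ⟨ps S S' g.1, by
    have hS' : S'ᵀ = S' := by
      have e : S'ᵀ * S = 1 := by
        have := congrArg Matrix.transpose h1
        rwa [transpose_mul, hS, transpose_one] at this
      calc S'ᵀ = S'ᵀ * (S * S') := by rw [h1, mul_one]
        _ = S' := by rw [← mul_assoc, e, one_mul]
    have hd := g.2
    rw [det_fin_two] at hd
    refine blocks_mem ?_ ?_ ?_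
    · rw [transpose_smul, transpose_smul, transpose_one, hS, smul_mul_smul_comm, smul_mul_smul_comm, mul_one,
        one_mul, mul_comm]
    · rw [transpose_smul, transpose_smul, transpose_one, hS', smul_mul_smul_comm, smul_mul_smul_comm, mul_one,
        one_mul, mul_comm]
    · rw [transpose_smul, transpose_smul, transpose_one, hS', smul_mul_smul_comm, smul_mul_smul_comm, mul_one,
        h1, ← sub_smul, hd, one_smul]⟩
  map_one' := by
    apply Subtype.ext
    change ps S S' (1 : M₂) = 1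
    unfold ps
    rw [← fromBlocks_one]
    simp
  map_mul' g h := Subtype.ext (ps_mul h1 h2 g.1 h.1).symm

theorem psH_injective {S S' : M₂} (h1 : S * S' = 1) (h2 : S' * S = 1) (hS : Sᵀ = S) :
    Function.Injective (psH h1 h2 hS) := by
  have key : ∀ {T : M₂}, T ≠ 0 → ∀ {a b : F}, a • T = b • T → a = b := by
    intro T hT a b h
    by_contra hne
    apply hT
    have h3 : (a - b) • T = 0 := by rw [sub_smul, h, sub_self]
    exact (smul_eq_zero.1 h3).resolve_left (sub_ne_zero.2 hne)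
  have hS0 : S ≠ 0 := by
    rintro rfl
    rw [zero_mul] at h1
    exact zero_ne_one h1
  have hS0' : S' ≠ 0 := by
    rintro rfl
    rw [mul_zero] at h1
    exact zero_ne_one h1
  intro g h e
  obtain ⟨e1, e2, e3, e4⟩ := fromBlocks_inj.1 (congrArg Subtype.val e)
  apply Subtype.ext
  ext i j
  fin_cases i <;> fin_cases j
  · exact key one_ne_zero e1
  · exact key hS0 e2
  · exact key hS0' e3
  · exact key one_ne_zero e4

end maps

/-! ### the invariant -/

section inv

variable {F : Type v} [Field F]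

local notation "M₂" => Matrix (Fin 2) (Fin 2) F
local notation "SL₂" => SpecialLinearGroup (Fin 2) F
local notation "Sp₄" => Matrix.symplecticGroup (Fin 2) F

/-- `t` is the trace of a factor `X² - t X + 1` of the characteristic polynomial -/
def Ev (x : Sp₄) (t : F) : Prop := ¬ IsUnit (x.1 * x.1 - t • x.1 + 1)

theorem Ev.conj {x y : Sp₄} (h : IsConj x y) {t : F} : Ev x t ↔ Ev y t := by
  have key : ∀ {x y : Sp₄}, IsConj x y → IsUnit (x.1 * x.1 - t • x.1 + 1) → IsUnit (y.1 * y.1 - t • y.1 + 1) := by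
    intro x y h hx
    obtain ⟨c, hc⟩ := isConj_iff.1 h
    have hcc : c.1 * (c⁻¹).1 = 1 := congrArg Subtype.val (mul_inv_cancel c)
    have hcc' : (c⁻¹).1 * c.1 = 1 := congrArg Subtype.val (inv_mul_cancel c)
    have hy : y.1 = c.1 * x.1 * (c⁻¹).1 := by
      rw [← hc]
      rfl
    have h1 : y.1 * y.1 - t • y.1 + 1 = c.1 * (x.1 * x.1 - t • x.1 + 1) * (c⁻¹).1 := by
      have h2 : y.1 * y.1 = c.1 * (x.1 * x.1) * (c⁻¹).1 := by
        calc y.1 * y.1 = c.1 * x.1 * ((c⁻¹).1 * c.1) * x.1 * (c⁻¹).1 := by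
              rw [hy]
              simp only [mul_assoc]
          _ = _ := by
              rw [hcc']
              simp only [mul_assoc, mul_one, one_mul]
      rw [h2, hy, mul_add, mul_sub, add_mul, sub_mul, mul_one, hcc, mul_smul_comm, smul_mul_assoc]
    rw [h1]
    exact (((IsUnit.of_mul_eq_one _ hcc).mul hx)).mul (IsUnit.of_mul_eq_one _ hcc')
  exact not_congr ⟨key h, key h.symm⟩

theorem ch (g : SL₂) : g.1 * g.1 = g.1.trace • g.1 - 1 := by
  have hd := g.2
  rw [det_fin_two] at hd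
  ext i j
  fin_cases i <;> fin_cases j <;>
    simp [Matrix.mul_apply, Fin.sum_univ_two, trace_fin_two] <;> first | ring1 | linear_combination -hd

theorem ev_bl (g h : SL₂) (t : F) : Ev (blH (g, h)) t ↔ t = g.1.trace ∨ t = h.1.trace := by
  have e : (blH (g, h)).1 * (blH (g, h)).1 - t • (blH (g, h)).1 + 1 =
      bl ((g.1.trace - t) • g.1) ((h.1.trace - t) • h.1) := by
    change bl g.1 h.1 * bl g.1 h.1 - t • bl g.1 h.1 + 1 = _
    rw [bl_mul, ← bl_one, sub_add_eq_add_sub, bl_add, sub_eq_add_neg, ← neg_smul, bl_smul, bl_add, ch, ch]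
    congr 1
    · rw [sub_smul, neg_smul]
      abel
    · rw [sub_smul, neg_smul]
      abel
  unfold Ev
  rw [e]
  constructor
  · intro hn
    by_contra hcon
    push Not at hcon
    apply hn
    have h1 : g.1.trace - t ≠ 0 := sub_ne_zero.2 hcon.1.symm
    have h2 : h.1.trace - t ≠ 0 := sub_ne_zero.2 hcon.2.symm
    refine IsUnit.of_mul_eq_one (bl ((g.1.trace - t)⁻¹ • (g⁻¹).1) ((h.1.trace - t)⁻¹ • (h⁻¹).1)) ?_
    rw [bl_mul, smul_mul_smul_comm, smul_mul_smul_comm, mul_inv_cancel₀ h1, mul_inv_cancel₀ h2, one_smul, one_smul,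
      ← bl_one]
    have hg : g.1 * (g⁻¹).1 = 1 := congrArg Subtype.val (mul_inv_cancel g)
    have hh : h.1 * (h⁻¹).1 = 1 := congrArg Subtype.val (mul_inv_cancel h)
    rw [hg, hh]
  · rintro (h1 | h1) hu
    · have h2 : bl (1 : M₂) 0 * bl ((g.1.trace - t) • g.1) ((h.1.trace - t) • h.1) = bl 0 0 := by
        rw [bl_mul, h1, sub_self, zero_smul, mul_zero, zero_mul]
      have h3 : bl (0 : M₂) 0 = 0 := by
        have := bl_smul (0 : F) (0 : M₂) 0
        rw [zero_smul, zero_smul] at this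
        exact this.symm
      rw [h3] at h2
      have h4 := (hu.mul_left_eq_zero).1 h2
      rw [← h3] at h4
      exact one_ne_zero (bl_inj h4).1
    · have h2 : bl (0 : M₂) 1 * bl ((g.1.trace - t) • g.1) ((h.1.trace - t) • h.1) = bl 0 0 := by
        rw [bl_mul, h1, sub_self, zero_smul, mul_zero, zero_mul]
      have h3 : bl (0 : M₂) 0 = 0 := by
        have := bl_smul (0 : F) (0 : M₂) 0
        rw [zero_smul, zero_smul] at this
        exact this.symm
      rw [h3] at h2
      have h4 := (hu.mul_left_eq_zero).1 h2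
      rw [← h3] at h4
      exact one_ne_zero (bl_inj h4).2

theorem trace_inv (g : SL₂) : (g⁻¹).1.trace = g.1.trace := by
  have h1 : (g⁻¹).1 = adjugate g.1 := Matrix.SpecialLinearGroup.coe_inv g
  rw [h1, adjugate_fin_two, trace_fin_two, trace_fin_two]
  simp [add_comm]

theorem ev_dg (g : SL₂) (t : F) : Ev (dgH g) t ↔ t = g.1.trace := by
  have e : (dgH g).1 * (dgH g).1 - t • (dgH g).1 + 1 = (g.1.trace - t) • (dgH g).1 := by
    have h1 : (dgH g).1 * (dgH g).1 = g.1.trace • (dgH g).1 - 1 := by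
      change fromBlocks g.1 0 0 (g⁻¹).1ᵀ * fromBlocks g.1 0 0 (g⁻¹).1ᵀ = g.1.trace • fromBlocks g.1 0 0 (g⁻¹).1ᵀ - 1
      rw [fromBlocks_multiply, fromBlocks_smul, ← fromBlocks_one, sub_eq_add_neg, fromBlocks_neg, fromBlocks_add]
      have h2 : (g⁻¹).1ᵀ * (g⁻¹).1ᵀ = g.1.trace • (g⁻¹).1ᵀ - 1 := by
        rw [← transpose_mul, ch, trace_inv, transpose_sub, transpose_smul, transpose_one]
      rw [h2, ch]
      simp [sub_eq_add_neg]
    rw [h1, sub_smul]
    abel
  unfold Ev
  rw [e]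
  constructor
  · intro hn
    by_contra hcon
    apply hn
    have h1 : g.1.trace - t ≠ 0 := sub_ne_zero.2 (Ne.symm hcon)
    have h2 : (dgH g).1 * ((dgH g)⁻¹).1 = 1 := congrArg Subtype.val (mul_inv_cancel (dgH g))
    refine IsUnit.of_mul_eq_one ((g.1.trace - t)⁻¹ • ((dgH g)⁻¹).1) ?_
    rw [smul_mul_smul_comm, mul_inv_cancel₀ h1, one_smul, h2]
  · intro h1 hu
    rw [h1, sub_self, zero_smul] at hu
    exact not_isUnit_zero hu

/-! ### traces of powers -/

theorem eq_one_of_trace {g : SL₂} {N : ℕ} (hN : (N : F) ≠ 0) (hg : g ^ N = 1) (ht : g.1.trace = 2) : g = 1 := by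
  have h1 : (g.1 - 1) * (g.1 - 1) = 0 := by
    rw [sub_mul, mul_sub, mul_sub, ch, ht, mul_one, one_mul, one_mul, two_smul]
    abel
  have h2 : ∀ n : ℕ, (1 + (g.1 - 1)) ^ n = 1 + (n : F) • (g.1 - 1) := by
    intro n
    induction n with
    | zero => simp
    | succ n ih =>
      rw [pow_succ, ih, mul_add, mul_one, add_mul, one_mul, smul_mul_assoc, h1, smul_zero, add_zero,
        Nat.cast_succ, add_smul, one_smul, add_assoc]
  have h3 := h2 N
  rw [add_sub_cancel] at h3
  have h4 : g.1 ^ N = 1 := congrArg Subtype.val hg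
  rw [h4] at h3
  have h5 : (N : F) • (g.1 - 1) = 0 := by
    have := h3.symm
    rwa [add_eq_left] at this
  have h6 := (smul_eq_zero.1 h5).resolve_left hN
  exact Subtype.ext (sub_eq_zero.1 h6)

theorem trace_sq (g : SL₂) : (g ^ 2).1.trace = g.1.trace ^ 2 - 2 := by
  have h1 : (g ^ 2).1 = g.1 * g.1 := by
    rw [pow_two]
    rfl
  rw [h1, ch, trace_sub, trace_smul, trace_one, smul_eq_mul]
  simp
  ring

/-- the three traces are different -/
theorem traces {g : SL₂} {N : ℕ} (hN : (N : F) ≠ 0) (hg : orderOf g = N) (hodd : ¬ 2 ∣ N) (h5 : 5 ≤ N) :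
    g.1.trace ≠ 2 ∧ (g ^ 2).1.trace ≠ 2 ∧ g.1.trace ≠ (g ^ 2).1.trace := by
  have hpow : g ^ N = 1 := by rw [← hg, pow_orderOf_eq_one]
  have hne : g ≠ 1 := by
    rintro rfl
    rw [orderOf_one] at hg
    omega
  have h1 : g.1.trace ≠ 2 := fun h => hne (eq_one_of_trace hN hpow h)
  have h2 : (g ^ 2).1.trace ≠ 2 := by
    intro h
    have h3 := eq_one_of_trace hN (g := g ^ 2) (by rw [← pow_mul, mul_comm, pow_mul, hpow, one_pow]) h
    have h4 := orderOf_dvd_of_pow_eq_one h3
    rw [hg] at h4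
    have := Nat.le_of_dvd (by norm_num) h4
    omega
  refine ⟨h1, h2, fun h => ?_⟩
  rw [trace_sq] at h
  have h3 : (g.1.trace - 2) * (g.1.trace + 1) = 0 := by linear_combination -h
  have h4 : g.1.trace = -1 := eq_neg_of_add_eq_zero_left ((mul_eq_zero.1 h3).resolve_left (sub_ne_zero.2 h1))
  have h5' : g ^ 3 = 1 := by
    apply Subtype.ext
    change g.1 ^ 3 = 1
    have h6 := ch g
    rw [h4] at h6
    have h7 : g.1 * g.1 = -g.1 - 1 := by rw [h6, neg_smul, one_smul]
    rw [pow_succ, pow_two, h7, sub_mul, neg_mul, h7, one_mul]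
    abel
  have h8 := orderOf_dvd_of_pow_eq_one h5'
  rw [hg] at h8
  have := Nat.le_of_dvd (by norm_num) h8
  omega

end inv

/-! ### the quotient -/

section quot

variable {F : Type v} [Field F]

local notation "M₂" => Matrix (Fin 2) (Fin 2) F
local notation "SL₂" => SpecialLinearGroup (Fin 2) F
local notation "Sp₄" => Matrix.symplecticGroup (Fin 2) F

theorem center_sq {z : Sp₄} (hz : z ∈ Subgroup.center Sp₄) : z ^ 2 = 1 := by
  apply Subtype.ext
  change z.1 ^ 2 = 1
  rcases ClassicalGeometry.SympInvolutions.center_eq hz with h3 | h3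
  · rw [h3, one_pow]
  · rw [h3, neg_one_sq]

theorem conj_of_conj {x y : Sp₄} {N : ℕ} (hN : ¬ 2 ∣ N) (hx : x ^ N = 1) (hy : y ^ N = 1)
    (h : IsConj (QuotientGroup.mk x : PSp 2 F) (QuotientGroup.mk y)) : IsConj x y := by
  obtain ⟨c, hc⟩ := isConj_iff.1 h
  obtain ⟨d, rfl⟩ := QuotientGroup.mk_surjective c
  rw [← QuotientGroup.mk_mul, ← QuotientGroup.mk_inv, ← QuotientGroup.mk_mul] at hc
  have hz : (d * x * d⁻¹)⁻¹ * y ∈ Subgroup.center Sp₄ := QuotientGroup.eq.1 hc
  obtain ⟨z, hzz⟩ : ∃ z, z = (d * x * d⁻¹)⁻¹ * y := ⟨_, rfl⟩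
  rw [← hzz] at hz
  have hyz : y = (d * x * d⁻¹) * z := by rw [hzz, mul_inv_cancel_left]
  have hcom : Commute (d * x * d⁻¹) z := (Subgroup.mem_center_iff.1 hz _)
  have h1 : z ^ N = 1 := by
    rw [hyz, hcom.mul_pow, conj_pow, hx, mul_one, mul_inv_cancel, one_mul] at hy
    exact hy
  have h2 := center_sq hz
  have h3 : z = 1 := by
    have h4 : z ^ Nat.gcd N 2 = 1 := pow_gcd_eq_one.2 ⟨h1, h2⟩
    have h5 : Nat.gcd N 2 = 1 := Nat.Coprime.symm ((Nat.Prime.coprime_iff_not_dvd Nat.prime_two).2 hN)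
    rwa [h5, pow_one] at h4
  rw [hyz, h3, mul_one]
  exact isConj_iff.2 ⟨d, rfl⟩

theorem wt_two {p : ℕ} [hp : Fact p.Prime] [Finite F] (hperf : commutator SL₂ = ⊤) {w : SL₂} {k : ℕ}
    (hw : orderOf w = p ^ k) (h2 : ¬ p ^ k ∣ 2) {x : Sp₄} (f : SL₂ →* Sp₄) (hf : Function.Injective f)
    (hx : ∀ g, f g * x = x * f g) : wt p (QuotientGroup.mk x : PSp 2 F) = 2 := by
  have hfin : Finite (PSp 2 F) := Quotient.finite _
  apply wt_eq_two
  let f' : SL₂ →* ↥(Subgroup.centralizer ({(QuotientGroup.mk x : PSp 2 F)} : Set (PSp 2 F))) :=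
    { toFun := fun g => ⟨QuotientGroup.mk (f g), by
        rw [Subgroup.mem_centralizer_singleton_iff, ← QuotientGroup.mk_mul, ← QuotientGroup.mk_mul, hx]⟩
      map_one' := by
        apply Subtype.ext
        change (QuotientGroup.mk (f 1) : PSp 2 F) = 1
        rw [map_one]
        rfl
      map_mul' := by
        intro a b
        apply Subtype.ext
        change (QuotientGroup.mk (f (a * b)) : PSp 2 F) = QuotientGroup.mk (f a) * QuotientGroup.mk (f b)
        rw [map_mul]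
        rfl }
  refine not_compl_of_hom f' hperf (y := w) ?_ ?_
  · intro h
    have h1 : (QuotientGroup.mk (f w) : PSp 2 F) = 1 := congrArg Subtype.val h
    have h3 := center_sq ((QuotientGroup.eq_one_iff _).1 h1)
    rw [← map_pow] at h3
    have h4 : w ^ 2 = 1 := hf (by rw [h3, map_one])
    have h5 := orderOf_dvd_of_pow_eq_one h4
    rw [hw] at h5
    exact h2 h5
  · have h1 := orderOf_map_dvd f' w
    rw [hw] at h1
    obtain ⟨j, -, hj⟩ := (Nat.dvd_prime_pow hp.out).1 h1
    exact ⟨j, hj⟩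

/-- the six elements -/
def six (w : SL₂) : Fin 6 → Sp₄ := ![1, blH (w, 1), blH (w ^ 2, 1), dgH w, dgH (w ^ 2), blH (w, w ^ 2)]

theorem ev_six (w : SL₂) (i : Fin 6) (t : F) : Ev (six w i) t ↔
    t ∈ (![{2}, {w.1.trace, 2}, {(w ^ 2).1.trace, 2}, {w.1.trace}, {(w ^ 2).1.trace},
      {w.1.trace, (w ^ 2).1.trace}] : Fin 6 → Set F) i := by
  have h1 : (1 : SL₂).1.trace = 2 := by
    change (1 : M₂).trace = 2
    rw [trace_one]
    simp
  fin_cases i
  · change Ev 1 t ↔ t ∈ ({2} : Set F)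
    have h2 : (1 : Sp₄) = blH (1, 1) := (map_one blH).symm
    rw [h2, ev_bl, h1, or_self]
    rfl
  · change Ev (blH (w, 1)) t ↔ _
    rw [ev_bl, h1]
    rfl
  · change Ev (blH (w ^ 2, 1)) t ↔ _
    rw [ev_bl, h1]
    rfl
  · exact ev_dg w t
  · exact ev_dg (w ^ 2) t
  · exact ev_bl w (w ^ 2) t

theorem six_inj {w : SL₂} (h1 : w.1.trace ≠ 2) (h2 : (w ^ 2).1.trace ≠ 2) (h3 : w.1.trace ≠ (w ^ 2).1.trace)
    {i j : Fin 6} (h : IsConj (six w i) (six w j)) : i = j := by
  obtain ⟨a, ha⟩ : ∃ a, a = w.1.trace := ⟨_, rfl⟩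
  obtain ⟨b, hb⟩ : ∃ b, b = (w ^ 2).1.trace := ⟨_, rfl⟩
  have key : ∀ t : F, t ∈ (![{2}, {a, 2}, {b, 2}, {a}, {b}, {a, b}] : Fin 6 → Set F) i ↔
      t ∈ (![{2}, {a, 2}, {b, 2}, {a}, {b}, {a, b}] : Fin 6 → Set F) j := by
    intro t
    rw [ha, hb, ← ev_six, ← ev_six, Ev.conj h]
  rw [← ha] at h1 h3
  rw [← hb] at h2 h3
  have k2 := key 2
  have ka := key a
  have kb := key b
  clear key ha hb h
  fin_cases i <;> fin_cases j <;> first
    | rfl
    | (exfalso; simp [h1, h2, h3, h1.symm, h2.symm, h3.symm] at k2 ka kb)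

end quot

/-- **Eleven.** -/
theorem krow_psp_four {F : Type} [Field F] [Fintype F] {p : ℕ} [hp : Fact p.Prime] (hp2 : p ≠ 2) (hpF : (p : F) ≠ 0)
    (h4 : 4 ≤ Fintype.card F) {w : SpecialLinearGroup (Fin 2) F} {k : ℕ} (hw : orderOf w = p ^ k)
    (h5 : 5 ≤ p ^ k) : KRow.{u, 0} p (PSp 2 F) := by
  classical
  have hfin : Finite (PSp 2 F) := Quotient.finite _
  have hperf := H982.TWModel.perfect_two h4
  have hodd : ¬ 2 ∣ p ^ k := by
    intro h
    have h1 := Nat.Prime.dvd_of_dvd_pow Nat.prime_two h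
    exact hp2 ((Nat.prime_dvd_prime_iff_eq Nat.prime_two hp.out).1 h1).symm
  have hN : ((p ^ k : ℕ) : F) ≠ 0 := by
    rw [Nat.cast_pow]
    exact pow_ne_zero _ hpF
  have hle : ¬ p ^ k ∣ 2 := by
    intro h
    have := Nat.le_of_dvd (by norm_num) h
    omega
  have hpow : w ^ p ^ k = 1 := by rw [← hw, pow_orderOf_eq_one]
  obtain ⟨t1, t2, t3⟩ := traces hN hw hodd h5
  have hsix : ∀ i, six w i ^ p ^ k = 1 := by
    have hpow2 : (w ^ 2) ^ p ^ k = 1 := by rw [← pow_mul, mul_comm, pow_mul, hpow, one_pow]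
    intro i
    fin_cases i
    · exact one_pow _
    · change blH (w, 1) ^ p ^ k = 1
      rw [← map_pow, Prod.pow_mk, hpow, one_pow]
      exact map_one _
    · change blH (w ^ 2, 1) ^ p ^ k = 1
      rw [← map_pow, Prod.pow_mk, hpow2, one_pow]
      exact map_one _
    · change dgH w ^ p ^ k = 1
      rw [← map_pow, hpow, map_one]
    · change dgH (w ^ 2) ^ p ^ k = 1
      rw [← map_pow, hpow2, map_one]
    · change blH (w, w ^ 2) ^ p ^ k = 1
      rw [← map_pow, Prod.pow_mk, hpow, hpow2]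
      exact map_one _
  let v : Fin 6 → PSp 2 F := fun i => QuotientGroup.mk (six w i)
  have hconj : ∀ i j, IsConj (v i) (v j) → i = j := fun i j h =>
    six_inj t1 t2 t3 (conj_of_conj hodd (hsix i) (hsix j) h)
  have hinj : Function.Injective v := fun i j h => hconj i j (by rw [h])
  -- the tensor subgroup
  obtain ⟨f, hf, hfc⟩ : ∃ f : SpecialLinearGroup (Fin 2) F →* Matrix.symplecticGroup (Fin 2) F,
      Function.Injective f ∧ ∀ g, f g * dgH w = dgH w * f g := by
    obtain ⟨a, ha⟩ : ∃ a, a = w.1 0 0 := ⟨_, rfl⟩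
    obtain ⟨b, hb⟩ : ∃ b, b = w.1 0 1 := ⟨_, rfl⟩
    obtain ⟨c, hc⟩ : ∃ c, c = w.1 1 0 := ⟨_, rfl⟩
    obtain ⟨d, hd⟩ : ∃ d, d = w.1 1 1 := ⟨_, rfl⟩
    have hdet : a * d - b * c = 1 := by
      have := w.2
      rw [det_fin_two] at this
      rw [ha, hb, hc, hd]
      exact this
    have htr : w.1.trace = a + d := by rw [ha, hd, trace_fin_two]
    have hw1 : w.1 = !![a, b; c, d] := by
      ext i j
      fin_cases i <;> fin_cases j
      · exact ha.symm
      · exact hb.symm
      · exact hc.symm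
      · exact hd.symm
    have hwi : (w⁻¹).1 = !![d, -b; -c, a] := by
      have h1 : (w⁻¹).1 = adjugate w.1 := Matrix.SpecialLinearGroup.coe_inv w
      rw [h1, hw1, adjugate_fin_two_of]
    have hD : 4 - (a + d) ^ 2 ≠ 0 := by
      rw [← htr]
      intro h
      have h6 := trace_sq w
      apply t2
      rw [h6]
      linear_combination -h
    obtain ⟨D, hDD⟩ : ∃ D, D = 4 - (a + d) ^ 2 := ⟨_, rfl⟩
    rw [← hDD] at hD
    let S : Matrix (Fin 2) (Fin 2) F := !![2 * b, d - a; d - a, -2 * c]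
    let S' : Matrix (Fin 2) (Fin 2) F := D⁻¹ • !![-2 * c, a - d; a - d, 2 * b]
    have e1 : S * S' = 1 := by
      change !![2 * b, d - a; d - a, -2 * c] * (D⁻¹ • !![-2 * c, a - d; a - d, 2 * b]) = 1
      rw [mul_smul_comm]
      have e : !![2 * b, d - a; d - a, -2 * c] * !![-2 * c, a - d; a - d, 2 * b] = D • (1 : Matrix (Fin 2) (Fin 2) F) := by
        ext i j
        fin_cases i <;> fin_cases j <;> simp [Matrix.mul_apply, Fin.sum_univ_two, hDD] <;>
          first | ring1 | linear_combination 4 * hdet | linear_combination -4 * hdet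
      rw [e, smul_smul, inv_mul_cancel₀ hD, one_smul]
    have e2 : S' * S = 1 := by
      change (D⁻¹ • !![-2 * c, a - d; a - d, 2 * b]) * !![2 * b, d - a; d - a, -2 * c] = 1
      rw [smul_mul_assoc]
      have e : !![-2 * c, a - d; a - d, 2 * b] * !![2 * b, d - a; d - a, -2 * c] = D • (1 : Matrix (Fin 2) (Fin 2) F) := by
        ext i j
        fin_cases i <;> fin_cases j <;> simp [Matrix.mul_apply, Fin.sum_univ_two, hDD] <;>
          first | ring1 | linear_combination 4 * hdet | linear_combination -4 * hdet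
      rw [e, smul_smul, inv_mul_cancel₀ hD, one_smul]
    have e3 : Sᵀ = S := by
      ext i j
      fin_cases i <;> fin_cases j <;> rfl
    refine ⟨psH e1 e2 e3, psH_injective e1 e2 e3, fun g => ?_⟩
    -- `w S wᵀ = S`
    have k1 : w.1 * S = S * (w⁻¹).1ᵀ := by
      rw [hw1, hwi]
      ext i j
      fin_cases i <;> fin_cases j <;> simp [S, Matrix.mul_apply, Fin.sum_univ_two] <;> ring1
    have k2 : (w⁻¹).1ᵀ * S' = S' * w.1 := by
      calc (w⁻¹).1ᵀ * S' = (S' * S) * (w⁻¹).1ᵀ * S' := by rw [e2, one_mul]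
        _ = S' * (w.1 * S) * S' := by rw [k1]; simp only [mul_assoc]
        _ = S' * w.1 * (S * S') := by simp only [mul_assoc]
        _ = S' * w.1 := by rw [e1, mul_one]
    apply Subtype.ext
    change ps S S' g.1 * fromBlocks w.1 0 0 (w⁻¹).1ᵀ = fromBlocks w.1 0 0 (w⁻¹).1ᵀ * ps S S' g.1
    unfold ps
    rw [fromBlocks_multiply, fromBlocks_multiply]
    simp only [mul_zero, zero_mul, add_zero, zero_add, smul_mul_assoc, one_mul, mul_smul_comm, mul_one]
    rw [k1, k2]
    simp only [smul_zero, add_zero, zero_add]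
  have hfc2 : ∀ g, f g * dgH (w ^ 2) = dgH (w ^ 2) * f g := by
    intro g
    have h1 : Commute (f g) (dgH w) := hfc g
    rw [map_pow]
    exact h1.pow_right 2
  have hinr : Function.Injective (blH.comp (MonoidHom.inr (SpecialLinearGroup (Fin 2) F) _) :
      SpecialLinearGroup (Fin 2) F →* Matrix.symplecticGroup (Fin 2) F) := by
    intro g h e
    exact congrArg Prod.snd (blH_injective e)
  have hcomm : ∀ (x g : SpecialLinearGroup (Fin 2) F),
      (blH.comp (MonoidHom.inr (SpecialLinearGroup (Fin 2) F) _)) g * blH (x, 1) =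
      blH (x, 1) * (blH.comp (MonoidHom.inr (SpecialLinearGroup (Fin 2) F) _)) g := by
    intro x g
    change blH (1, g) * blH (x, 1) = blH (x, 1) * blH (1, g)
    rw [← map_mul, ← map_mul, Prod.mk_mul_mk, Prod.mk_mul_mk, one_mul, mul_one, one_mul, mul_one]
  have w0 : wt p (v 0) = 2 := wt_two hperf hw hle _ hinr (x := 1) fun g => by rw [mul_one, one_mul]
  have w1 : wt p (v 1) = 2 := wt_two hperf hw hle _ hinr (x := blH (w, 1)) (hcomm w)
  have w2 : wt p (v 2) = 2 := wt_two hperf hw hle _ hinr (x := blH (w ^ 2, 1)) (hcomm (w ^ 2))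
  have w3 : wt p (v 3) = 2 := wt_two hperf hw hle f hf (x := dgH w) hfc
  have w4 : wt p (v 4) = 2 := wt_two hperf hw hle f hf (x := dgH (w ^ 2)) hfc2
  have w5 : 1 ≤ wt p (v 5) := one_le_wt _
  refine krow_of_abel_wt (fun a b => out_comm_psp_four a b) (Finset.univ.image v) ?_ ?_ ?_
  · intro x hx
    obtain ⟨i, -, rfl⟩ := Finset.mem_image.1 hx
    have h1 : orderOf (v i) ∣ p ^ k := by
      refine orderOf_dvd_of_pow_eq_one ?_
      change (QuotientGroup.mk (six w i) : PSp 2 F) ^ p ^ k = 1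
      rw [← QuotientGroup.mk_pow, hsix]
      rfl
    obtain ⟨j, -, hj⟩ := (Nat.dvd_prime_pow hp.out).1 h1
    exact ⟨j, hj⟩
  · intro x hx y hy h
    obtain ⟨i, -, rfl⟩ := Finset.mem_image.1 hx
    obtain ⟨j, -, rfl⟩ := Finset.mem_image.1 hy
    rw [hconj i j h]
  · rw [Finset.sum_image fun i _ j _ h => hinj h, Fin.sum_univ_six, w0, w1, w2, w3, w4]
    omega

end Cfsg.Agent.H193.K6
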