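import Cfsg.Agent.H193.K6.PspFour
import Cfsg.Agent.H124.LinCyc
import Cfsg.Agent.H436.Names

/-!
# S4876, row `PSp₄(q)`, `p ∤ q` (helper193)

`psp_four` : the row in the form of `tools/plans/S4876_tasks.lean`.
-/

set_option autoImplicit false
set_option linter.unusedSectionVars false

open Cfsg

namespace Cfsg.Agent.H193.K6

open Cfsg.Agent.H61.K6 Cfsg.Agent.H436 Cfsg.Agent.OrdDiv

universe u v

theorem dvd_pow_sub_iff {p q : ℕ} (hq : 1 ≤ q) (j : ℕ) : p ∣ q ^ j - 1 ↔ orderOf ((q : ℕ) : ZMod p) ∣ j := by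
  rw [orderOf_dvd_iff_pow_eq_one, ← (ZMod.natCast_eq_zero_iff (q ^ j - 1) p), Nat.cast_sub (Nat.one_le_pow _ _ hq),
    Nat.cast_pow, Nat.cast_one, sub_eq_zero]

/-- `p ∣ q² + 1`: cyclic Sylow subgroups -/
theorem cyclic_of_dvd_add {F : Type} [Field F] [Fintype F] {p : ℕ} [hp : Fact p.Prime] (hp2 : p ≠ 2)
    (h : p ∣ Fintype.card F ^ 2 + 1) (P : Sylow p (PSp 2 F)) : IsCyclic (P : Subgroup (PSp 2 F)) := by
  have hq : 1 ≤ Fintype.card F := Fintype.card_pos
  have h1 : (((Fintype.card F : ℕ) : ZMod p)) ^ 2 = -1 := by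
    have h2 := (ZMod.natCast_eq_zero_iff (Fintype.card F ^ 2 + 1) p).2 h
    rw [Nat.cast_add, Nat.cast_pow, Nat.cast_one] at h2
    exact eq_neg_of_add_eq_zero_left h2
  have h2 : orderOf ((Fintype.card F : ℕ) : ZMod p) = 4 := by
    have : Fact (Nat.Prime 2) := ⟨Nat.prime_two⟩
    refine orderOf_eq_prime_pow (p := 2) (n := 1) ?_ ?_
    · rw [pow_one, h1]
      intro h3
      have : Fact (2 < p) := ⟨by
        have := hp.out.two_le
        omega⟩
      exact ZMod.neg_one_ne_one h3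
    · rw [show 2 ^ (1 + 1) = 2 * 2 by norm_num, pow_mul, h1]
      norm_num
  have hfin : Finite (PSp 2 F) := Quotient.finite _
  exact H124.LinCyc.isCyclic_sylow_of_gl (ι := Fin 2 ⊕ Fin 2) (F := F) (e := 4) hp2 (by norm_num)
      (fun j => by rw [dvd_pow_sub_iff hq, h2])
      (by rw [Fintype.card_sum, Fintype.card_fin]; omega)
      (MonoidHom.toHomUnits (Matrix.symplecticGroup (Fin 2) F).subtype)
      (fun a b hab => Subtype.ext (congrArg Units.val hab))
      (QuotientGroup.mk' (Subgroup.center (Matrix.symplecticGroup (Fin 2) F))) (QuotientGroup.mk'_surjective _) P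

/-- `PSp₄(q)`, `p ∣ q² - 1` and `9 ∣ q² - 1` if `p = 3` -/
theorem krow_psp_four_of_dvd {F : Type} [Field F] [Fintype F] {p : ℕ} [hp : Fact p.Prime] (hp2 : p ≠ 2)
    (hpq : ¬ p ∣ Fintype.card F) (hd : p ∣ Fintype.card F ^ 2 - 1) (h9 : p = 3 → 9 ∣ Fintype.card F ^ 2 - 1) :
    KRow.{u, 0} p (PSp 2 F) := by
  obtain ⟨q, hq⟩ : ∃ q, q = Fintype.card F := ⟨_, rfl⟩
  rw [← hq] at hpq hd h9
  have h3 := hp.out.two_le
  have h1 : 1 < q := by
    rw [hq]
    exact Fintype.one_lt_card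
  have hpF : (p : F) ≠ 0 := by
    intro h
    apply hpq
    obtain ⟨r, hr⟩ := CharP.exists F
    have hr1 : r ∣ p := (CharP.cast_eq_zero_iff F r p).1 h
    have hr2 : r ≠ 1 := CharP.char_ne_one F r
    have hr3 : r = p := ((Nat.dvd_prime hp.out).1 hr1).resolve_left hr2
    subst hr3
    obtain ⟨n, hn⟩ := FiniteField.card F r
    rw [hq, hn.2]
    exact dvd_pow_self r n.pos.ne'
  have hfac : q ^ 2 - 1 = (q - 1) * (q + 1) := by
    obtain ⟨c, rfl⟩ : ∃ c, q = c + 1 := ⟨q - 1, by omega⟩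
    rw [Nat.add_sub_cancel]
    have : (c + 1) ^ 2 = c * (c + 1 + 1) + 1 := by ring
    rw [this, Nat.add_sub_cancel]
  rcases eq_or_ne p 3 with h | h
  · subst h
    have h9' := h9 rfl
    rw [hfac] at h9'
    have hq9 : 9 ∣ q - 1 ∨ 9 ∣ q + 1 := by
      by_cases h31 : 3 ∣ q - 1
      · left
        have hc : Nat.Coprime 9 (q + 1) := by
          rw [show 9 = 3 ^ 2 by norm_num]
          refine Nat.Coprime.pow_left 2 ((Nat.Prime.coprime_iff_not_dvd Nat.prime_three).2 ?_)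
          omega
        exact hc.dvd_of_dvd_mul_right h9'
      · right
        have hc : Nat.Coprime 9 (q - 1) := by
          rw [show 9 = 3 ^ 2 by norm_num]
          exact Nat.Coprime.pow_left 2 ((Nat.Prime.coprime_iff_not_dvd Nat.prime_three).2 h31)
        exact hc.dvd_of_dvd_mul_left h9'
    have h8 : 4 ≤ q := by
      rcases hq9 with h | h
      · have := Nat.le_of_dvd (by omega) h
        omega
      · have := Nat.le_of_dvd (by omega) h
        omega
    obtain ⟨w, hw⟩ : Has (Matrix.SpecialLinearGroup (Fin 2) F) 9 := by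
      rcases hq9 with h | h
      · exact has_sl2_sub (by rwa [← hq])
      · exact has_sl2_add (by rwa [← hq])
    exact krow_psp_four hp2 hpF (by omega) (k := 2) (by rw [hw]; norm_num) (by norm_num)
  · have h5 : 5 ≤ p := by
      have h4 : p ≠ 4 := by
        rintro rfl
        exact absurd hp.out (by norm_num)
      omega
    rw [hfac] at hd
    have hd' := hp.out.dvd_mul.1 hd
    have h8 : 4 ≤ q := by
      rcases hd' with h | h
      · have := Nat.le_of_dvd (by omega) h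
        omega
      · have := Nat.le_of_dvd (by omega) h
        omega
    obtain ⟨w, hw⟩ : Has (Matrix.SpecialLinearGroup (Fin 2) F) p := by
      rcases hd' with h | h
      · exact has_sl2_sub (by rwa [← hq])
      · exact has_sl2_add (by rwa [← hq])
    exact krow_psp_four hp2 hpF (by omega) (k := 1) (by rw [hw, pow_one]) (by rwa [pow_one])

/-- the order of `PSp₄(q)` divides `q⁴ (q² - 1)² (q² + 1)` -/
theorem card_dvd {F : Type} [Field F] [Fintype F] :
    Nat.card (PSp 2 F) ∣ Fintype.card F ^ 4 * ((Fintype.card F ^ 2 - 1) ^ 2 * (Fintype.card F ^ 2 + 1)) := by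
  have h1 : Nat.card (PSp 2 F) ∣ Nat.card (Matrix.symplecticGroup (Fin 2) F) :=
    Subgroup.card_quotient_dvd_card _
  rw [LieClassical.SympCount.card_symplecticGroup, Finset.prod_range_succ, Finset.prod_range_succ,
    Finset.prod_range_zero, one_mul] at h1
  have hq : 1 ≤ Fintype.card F ^ 2 := Nat.one_le_pow _ _ Fintype.card_pos
  have h2 : Fintype.card F ^ (2 * (1 + 1)) - 1 = (Fintype.card F ^ 2 - 1) * (Fintype.card F ^ 2 + 1) := by
    obtain ⟨c, hc⟩ : ∃ c, Fintype.card F ^ 2 = c + 1 := ⟨Fintype.card F ^ 2 - 1, by omega⟩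
    rw [pow_mul, hc, Nat.add_sub_cancel]
    have : (c + 1) ^ (1 + 1) = c * (c + 1 + 1) + 1 := by ring
    rw [this, Nat.add_sub_cancel]
  rw [h2] at h1
  have h3 : Fintype.card F ^ 2 ^ 2 * ((Fintype.card F ^ (2 * (0 + 1)) - 1) *
      ((Fintype.card F ^ 2 - 1) * (Fintype.card F ^ 2 + 1))) =
      Fintype.card F ^ 4 * ((Fintype.card F ^ 2 - 1) ^ 2 * (Fintype.card F ^ 2 + 1)) := by
    norm_num
    ring
  rwa [h3] at h1

section rows

variable {S : Type v} [Group S] [Finite S] [IsSimpleGroup S] {p : ℕ} [hp : Fact p.Prime] {q : ℕ}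

/-- **row `PSp₄(q)`**, any prime `p ≠ 2` not dividing `q` -/
theorem psp_four (hp2 : p ≠ 2) (hdv : p ∣ Nat.card S) (three : p = 3 → 27 ∣ Nat.card S)
    (nc : ∀ Q : Sylow p S, ¬ IsCyclic (Q : Subgroup S)) (h : IsNamed (.psp 2 q) S) (hq : ¬ p ∣ q) :
    KRow.{u, v} p S := by
  obtain ⟨F, i1, i2, hF, ⟨e⟩⟩ := h.real
  have hfin : Finite (PSp 2 F) := Quotient.finite _
  refine KRow.congr (X := PSp 2 F) e.symm ?_
  have hcard := card_dvd (F := F)
  rw [← Nat.card_congr e.toEquiv, hF] at hcard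
  have hpq4 : Nat.Coprime p (q ^ 4) := ((Nat.Prime.coprime_iff_not_dvd hp.out).2 hq).pow_right 4
  have hd : p ∣ q ^ 2 - 1 := by
    have h1 := hpq4.dvd_of_dvd_mul_left (hdv.trans hcard)
    rcases hp.out.dvd_mul.1 h1 with h2 | h2
    · exact hp.out.dvd_of_dvd_pow h2
    · exfalso
      obtain ⟨P⟩ : Nonempty (Sylow p (PSp 2 F)) := inferInstance
      have h3 := cyclic_of_dvd_add (F := F) hp2 (by rw [hF]; exact h2) P
      -- transport
      have h4 : ∃ Q : Sylow p S, IsCyclic (Q : Subgroup S) := by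
        refine ⟨P.mapSurjective e.symm.surjective (f := e.symm.toMonoidHom), ?_⟩
        change IsCyclic ((P : Subgroup (PSp 2 F)).map e.symm.toMonoidHom)
        exact isCyclic_of_surjective (e.symm.toMonoidHom.subgroupMap (P : Subgroup (PSp 2 F)))
          (e.symm.toMonoidHom.subgroupMap_surjective _)
      obtain ⟨Q, hQ⟩ := h4
      exact nc Q hQ
  refine krow_psp_four_of_dvd hp2 (by rwa [hF]) (by rwa [hF]) ?_
  rintro rfl
  rw [hF]
  have h27 : 27 ∣ (q ^ 2 - 1) ^ 2 * (q ^ 2 + 1) := by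
    have hc : Nat.Coprime 27 (q ^ 4) := by
      rw [show 27 = 3 ^ 3 by norm_num]
      exact Nat.Coprime.pow_left 3 hpq4
    exact hc.dvd_of_dvd_mul_left ((three rfl).trans hcard)
  have hc : Nat.Coprime 27 (q ^ 2 + 1) := by
    rw [show 27 = 3 ^ 3 by norm_num]
    refine Nat.Coprime.pow_left 3 ((Nat.Prime.coprime_iff_not_dvd Nat.prime_three).2 ?_)
    have h1 : 1 ≤ q ^ 2 := Nat.one_le_pow _ _ (by
      rcases Nat.eq_zero_or_pos q with h0 | h0
      · subst h0
        exact absurd (dvd_zero 3) hq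
      · exact h0)
    omega
  have h27' : 27 ∣ (q ^ 2 - 1) ^ 2 := hc.dvd_of_dvd_mul_right h27
  obtain ⟨c, hc3⟩ := hd
  rw [hc3] at h27' ⊢
  have h1 : 27 ∣ 9 * c ^ 2 := by
    have : (3 * c) ^ 2 = 9 * c ^ 2 := by ring
    rwa [this] at h27'
  have h2 : 3 ∣ c ^ 2 := by
    obtain ⟨d, hd⟩ := h1
    exact ⟨d, by omega⟩
  have h3 : 3 ∣ c := Nat.prime_three.dvd_of_dvd_pow h2
  obtain ⟨d, rfl⟩ := h3
  exact ⟨d, by ring⟩

end rows

end Cfsg.Agent.H193.K6
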