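import Cfsg.Agent.H80.K6.Crit
import Cfsg.Agent.H49.ThFiveDat
import Cfsg.Agent.H478.RadTh

/-!
# S4876: the Thompson group, `p = 5` (helper193)

`C(z) = 5^(1+2) . SL_2(3)` for an element `z` of order 5, and `C(z)` contains elements of orders 1, 2, 3, 4, 6.
-/

set_option autoImplicit false

open Cfsg

namespace Cfsg.Agent.H193.K6.ThFive

open Subgroup Cfsg.Agent.H61.K6 Cfsg.Agent.H80.K6 Cfsg.Agent.H49.ThFive

universe u v

section

variable {H : Type u} [Group H] [Finite H] {x y z s : H}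

/-- `C_H(P) ≤ P` if `|H| = 3000` -/
theorem cent_le (D : Loc x y z s) (hH : Nat.card H = 3000) :
    centralizer (PP x y z : Set H) ≤ PP x y z := by
  obtain ⟨N, hN⟩ := D.exists_LC
  have hn := hN.core.normal
  have h120 := hN.orbit.2
  -- `N = P`
  have h1 : Nat.card ↥N * Nat.card ↥(centralizer ({s} : Set H)) = 3000 * 5 := by
    have h3 : Nat.card ↥(N ⊓ centralizer ({s} : Set H) : Subgroup H) = 5 := by
      have h4 : N ⊓ centralizer ({s} : Set H) = zpowers z := by
        refine le_antisymm hN.core.inf ?_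
        rw [zpowers_le]
        exact ⟨hN.core.zN, mem_centralizer_singleton_iff.2 (D.z_comm s).symm⟩
      rw [h4, Nat.card_zpowers, D.oz]
    have h5 : N.index * Nat.card N = 3000 := by rw [Subgroup.index_mul_card, hH]
    have h6 : N.relIndex (centralizer ({s} : Set H)) = N.index := by
      rw [← Subgroup.relIndex_top_right, ← hN.core.sup, sup_comm, Subgroup.relIndex_sup_right]
    have h7 : N.relIndex (centralizer ({s} : Set H)) * Nat.card ↥(N ⊓ centralizer ({s} : Set H) : Subgroup H)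
        = Nat.card ↥(centralizer ({s} : Set H)) := by
      rw [← Subgroup.inf_relIndex_right, mul_comm, ← Subgroup.relIndex_bot_left, ← Subgroup.relIndex_bot_left]
      exact Subgroup.relIndex_mul_relIndex _ _ _ bot_le inf_le_right
    rw [h3, h6] at h7
    rw [← h7, ← h5]
    ring
  rw [h120] at h1
  have hNP : PP x y z = N := by
    refine Subgroup.eq_of_le_of_card_ge hN.PN ?_
    rw [D.card_P]
    omega
  intro k hk
  have hk' : k ∈ N ⊔ centralizer ({s} : Set H) := by rw [hN.core.sup]; exact mem_top k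
  obtain ⟨u, hu, c, hc, rfl⟩ := mem_sup_of_normal_left.1 hk'
  have huP : u ∈ PP x y z := by rw [hNP]; exact hu
  have hcs : c * s = s * c := mem_centralizer_singleton_iff.1 hc
  rw [mem_centralizer_iff] at hk
  -- `c` centralizes `v` if `s` inverts `v ∈ P`
  have key : ∀ v ∈ PP x y z, s * v * s⁻¹ = v⁻¹ → c * v = v * c := by
    intro v hv hsv
    have h2 := hk v hv
    have h3 : c * v * c⁻¹ = u⁻¹ * v * u := by
      have : u * c * v * c⁻¹ = v * u := by
        rw [← h2]; group
      calc c * v * c⁻¹ = u⁻¹ * (u * c * v * c⁻¹) := by group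
        _ = u⁻¹ * v * u := by rw [this]; group
    have h4 : u⁻¹ * v * u * v⁻¹ ∈ zpowers z := by
      have := hN.comm_mem (m := u⁻¹) (n := v) (N.inv_mem hu) (hNP ▸ hv)
      rwa [inv_inv] at this
    obtain ⟨d, hd⟩ : ∃ d, d = u⁻¹ * v * u * v⁻¹ := ⟨_, rfl⟩
    rw [← hd] at h4
    have h5 : c * v * c⁻¹ = d * v := by rw [h3, hd]; group
    have hdc : ∀ g : H, g * d = d * g := fun g => D.toSit.zc_comm h4 g
    -- conjugate by `s`
    have h6 : s * (c * v * c⁻¹) * s⁻¹ = (c * v * c⁻¹)⁻¹ := by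
      calc s * (c * v * c⁻¹) * s⁻¹ = (s * c) * v * (s * c)⁻¹ := by group
        _ = (c * s) * v * (c * s)⁻¹ := by rw [hcs]
        _ = c * (s * v * s⁻¹) * c⁻¹ := by group
        _ = (c * v * c⁻¹)⁻¹ := by rw [hsv]; group
    rw [h5] at h6
    have h7 : s * (d * v) * s⁻¹ = d * v⁻¹ := by
      calc s * (d * v) * s⁻¹ = (s * d) * v * s⁻¹ := by group
        _ = d * (s * v * s⁻¹) := by rw [hdc s]; group
        _ = d * v⁻¹ := by rw [hsv]
    have h8 : (d * v)⁻¹ = d⁻¹ * v⁻¹ := by
      rw [mul_inv_rev]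
      have := hdc v⁻¹
      calc v⁻¹ * d⁻¹ = (d * v)⁻¹ := by group
        _ = (v * d)⁻¹ := by rw [hdc v]
        _ = d⁻¹ * v⁻¹ := by group
    rw [h7, h8] at h6
    have h9 : d = d⁻¹ := mul_right_cancel h6
    have h10 : d * d = 1 := by
      nth_rw 2 [h9]
      exact mul_inv_cancel d
    have h11 : d = 1 := Cfsg.Agent.ThFive.eq_one_of_sq_odd (m := 5) (by decide) h10 (D.toSit.c_pow h4)
    rw [h11, one_mul, mul_inv_eq_iff_eq_mul] at h5
    exact h5
  have hcz := hN.cent_P hcs (key x D.xP D.sx) (key y D.yP D.sy)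
  exact mul_mem huP (D.ZP hcz)

/-- elements of orders 1, 2, 3, 4, 6 -/
theorem exists_orders (D : Loc x y z s) : ∀ m ∈ ({1, 2, 3, 4, 6} : Finset ℕ), ∃ g : H, orderOf g = m := by
  obtain ⟨N, hN⟩ := D.exists_LC
  have h120 := hN.orbit.2
  have h3F : Fact (Nat.Prime 3) := ⟨Nat.prime_three⟩
  have h2F : Fact (Nat.Prime 2) := ⟨Nat.prime_two⟩
  obtain ⟨t, ht⟩ := exists_prime_orderOf_dvd_card' (G := ↥(centralizer ({s} : Set H))) 3 (by rw [h120]; norm_num)
  have hts : (t : H) * s = s * t := mem_centralizer_singleton_iff.1 t.2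
  have ht' : orderOf (t : H) = 3 := by rw [Subgroup.orderOf_coe, ht]
  have h6 : orderOf (s * (t : H)) = 6 := by
    have : Commute s (t : H) := hts.symm
    rw [this.orderOf_mul_eq_mul_orderOf_of_coprime (by rw [D.os, ht']; norm_num), D.os, ht']
  obtain ⟨g, hg⟩ : ∃ g : H, orderOf g = 4 := by
    by_contra hno
    push Not at hno
    obtain ⟨K, hK⟩ := Sylow.exists_subgroup_card_pow_prime (G := ↥(centralizer ({s} : Set H))) 2 (n := 3)
      (by rw [h120]; norm_num)
    have h1 : ∀ k ∈ K, ((k : ↥(centralizer ({s} : Set H))) : H) = 1 ∨ ((k : ↥(centralizer ({s} : Set H))) : H) = s := by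
      intro k hk
      have h2 : orderOf k ∣ 2 ^ 3 := by
        have := orderOf_dvd_natCard (⟨k, hk⟩ : ↥K)
        rwa [hK, Subgroup.orderOf_mk] at this
      obtain ⟨j, hj, hj'⟩ := (Nat.dvd_prime_pow Nat.prime_two).1 h2
      have h3 : orderOf ((k : ↥(centralizer ({s} : Set H))) : H) = 2 ^ j := by rw [Subgroup.orderOf_coe, hj']
      interval_cases j
      · left
        exact orderOf_eq_one_iff.1 h3
      · right
        exact D.uniq _ h3 (mem_centralizer_singleton_iff.1 k.2)
      · exact absurd h3 (hno _)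
      · exfalso
        apply hno (((k : ↥(centralizer ({s} : Set H))) : H) ^ 2)
        rw [orderOf_pow, h3]
        norm_num
    have h2 : Nat.card ↥K ≤ 2 := by
      have h3 : Nat.card ↥K = (Set.range fun k : ↥K => ((k : ↥(centralizer ({s} : Set H))) : H)).ncard := by
        rw [← Nat.card_coe_set_eq]
        exact (Nat.card_range_of_injective (f := fun k : ↥K => ((k : ↥(centralizer ({s} : Set H))) : H))
          (fun a b hab => Subtype.ext (Subtype.ext hab))).symm
      rw [h3]
      refine (Set.ncard_le_ncard (t := ({1, s} : Set H)) ?_ (Set.toFinite _)).trans ?_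
      swap
      · refine (Set.ncard_insert_le _ _).trans ?_
        rw [Set.ncard_singleton]
      rintro _ ⟨k, rfl⟩
      rcases h1 k k.2 with h4 | h4
      · left; exact h4
      · right; exact h4
    rw [hK] at h2
    norm_num at h2
  intro m hm
  simp only [Finset.mem_insert, Finset.mem_singleton] at hm
  rcases hm with rfl | rfl | rfl | rfl | rfl
  · exact ⟨1, orderOf_one⟩
  · exact ⟨s, D.os⟩
  · exact ⟨t, ht'⟩
  · exact ⟨g, hg⟩
  · exact ⟨_, h6⟩

end

/-- **the Thompson group, `p = 5`** -/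
theorem krow : KRow.{u, 0} 5 Spor.Th := by
  have hf : Fact (Nat.Prime 5) := ⟨Nat.prime_five⟩
  obtain ⟨hfin, x, y, z, a, D⟩ := exists_dat
  have hs : IsSimpleGroup Spor.Th := Cfsg.Agent.H478.RadTh.simple
  have hna : ∃ a b : Spor.Th, a * b ≠ b * a := ⟨x, y, D.xy_ne⟩
  have hC := D.card_C
  obtain ⟨N, hN⟩ := D.loc.exists_LC
  have hPn := hN.P_normal
  have hw : EpsGe.{u, 0} 5 z 5 := by
    have h1 := epsGe_constrained (p := 5) (x := z)
      (PP (H := ↥(centralizer ({z} : Set Spor.Th))) ⟨x, mem_centralizer_singleton_iff.2 D.xz⟩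
      ⟨y, mem_centralizer_singleton_iff.2 D.yz⟩ ⟨z, mem_centralizer_singleton_iff.2 rfl⟩)
      D.loc.isP (cent_le D.loc hC) {1, 2, 3, 4, 6} (by
        intro m hm
        obtain ⟨g, hg⟩ := exists_orders D.loc m hm
        refine ⟨?_, (g : Spor.Th), mem_centralizer_singleton_iff.1 g.2, by rw [Subgroup.orderOf_coe, hg]⟩
        simp only [Finset.mem_insert, Finset.mem_singleton] at hm
        rcases hm with rfl | rfl | rfl | rfl | rfl <;> norm_num)
    exact h1
  refine KRow.of_weights (not_compl_of_simple hna (by rw [Cfsg.Agent.H478.RadTh.card_Th]; norm_num)) {z} ?_ ?_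
    (fun _ => 5) ?_ ?_
  · intro w hw
    rw [Finset.mem_singleton] at hw
    subst hw
    exact ⟨⟨1, by rw [D.oz, pow_one]⟩, fun h => by
      have := D.oz
      rw [h, orderOf_one] at this
      norm_num at this⟩
  · intro a ha b hb σ _
    rw [Finset.mem_singleton] at ha hb
    rw [ha, hb]
  · intro w hw'
    rw [Finset.mem_singleton] at hw'
    subst hw'
    exact hw.wtGe
  · simp

/-- **`Th`, `p = 5`.** -/
theorem _root_.Cfsg.Agent.H193.K6.th_five {X : Type v} [Group X] (h : Spor.IsoTh X) : KRow.{u, v} 5 X := by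
  obtain ⟨e⟩ := h
  exact krow.congr e.symm

end Cfsg.Agent.H193.K6.ThFive
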